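import Cfsg.Agent.Lib.KnownA.PrimeDim.Core
import Cfsg.Agent.Lib.MaxTensor.Homogeneous

/-!
In composite square-free dimension a minimal non-scalar normal subgroup acting absolutely irreducibly is perfect
and simple modulo scalars.
-/

set_option autoImplicit false
set_option linter.style.haveILetI false
set_option linter.unusedSectionVars false
set_option maxHeartbeats 800000

namespace Cfsg.Agent.Lib.TwoPrimeDim

open Matrix Cfsg.Agent.Lib.KnownA.PrimeDim Cfsg.Agent.Lib.MaxTensor
open scoped MatrixGroups Matrix commutatorElement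

variable {ι : Type} [Fintype ι] [DecidableEq ι] {F : Type*} [Field F]

local notation "GLn" => Matrix.GeneralLinearGroup ι F
local notation "MM" => Matrix ι ι F
local notation "VV" => (ι → F)
local notation "ZZ" => Cfsg.Geo.scalars ι F

/-- `h` conjugates `N` into itself for all `h` in `H`. -/
def NormalisedBy (H N : Subgroup GLn) : Prop := ∀ h ∈ H, ∀ x ∈ N, h * x * h⁻¹ ∈ N

/-- A non-scalar group normalised by `H` contains a minimal one. -/
theorem exists_minimal [Finite F] {H N₀ : Subgroup GLn} (hN₀ : NormalisedBy H N₀) (hns : ¬ N₀ ≤ ZZ) :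
    ∃ N : Subgroup GLn, N ≤ N₀ ∧ NormalisedBy H N ∧ ¬ N ≤ ZZ ∧
      ∀ M : Subgroup GLn, M ≤ N → NormalisedBy H M → M ≤ ZZ ∨ M = N := by
  obtain ⟨N, ⟨hle, hN, hNs⟩, hmin⟩ := Set.Finite.exists_minimal
    (Set.toFinite {N : Subgroup GLn | N ≤ N₀ ∧ NormalisedBy H N ∧ ¬ N ≤ ZZ}) ⟨N₀, le_rfl, hN₀, hns⟩
  refine ⟨N, hle, hN, hNs, fun M hM hMH => ?_⟩
  by_cases h : M ≤ ZZ
  · exact Or.inl h
  · exact Or.inr (le_antisymm hM (hmin ⟨hM.trans hle, hMH, h⟩ hM))

theorem normalisedBy_commutator {H N : Subgroup GLn} (hN : NormalisedBy H N) :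
    NormalisedBy H ⁅N, N⁆ := by
  intro h hh x hx
  have hle : (⁅N, N⁆).map (MulAut.conj h).toMonoidHom ≤ ⁅N, N⁆ := by
    rw [Subgroup.map_commutator]
    refine Subgroup.commutator_mono ?_ ?_ <;>
    · rintro _ ⟨y, hy, rfl⟩
      exact hN h hh y hy
  exact hle ⟨x, hx, rfl⟩

/-- An element centralising an absolutely irreducible group is a scalar. -/
theorem mem_scalars_of_commute (hn : 0 < Fintype.card ι) {N : Subgroup GLn}
    (habs : Cfsg.Geo.ActsAbsolutelyIrreducibly (Cfsg.Geo.matrixSet N)) {g : GLn}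
    (hg : ∀ x ∈ N, g * x = x * g) : g ∈ ZZ := by
  obtain ⟨c, hc⟩ := habs.2 (g : MM) (by
    rintro _ ⟨x, hx, rfl⟩
    simpa only [Units.val_mul] using congrArg Units.val (hg x hx))
  exact mem_scalars_of_matrix hn hc

/-- An element commuting with a perfect group modulo scalars commutes with it. -/
theorem commute_of_perfect {P : Subgroup GLn} (hP : ⁅P, P⁆ = P) {g : GLn}
    (hg : ∀ x ∈ P, g * x * g⁻¹ * x⁻¹ ∈ ZZ) : ∀ x ∈ P, g * x = x * g := by
  have hz : ∀ z ∈ ZZ, ∀ y : GLn, Commute z y := fun z hz y => (scalars_comm hz y).symm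
  have hle : ⁅P, P⁆ ≤ Subgroup.centralizer {g} := by
    refine Subgroup.commutator_le.mpr fun a ha b hb => ?_
    rw [Subgroup.mem_centralizer_singleton_iff]
    set z := g * a * g⁻¹ * a⁻¹ with hz1
    set w := g * b * g⁻¹ * b⁻¹ with hw1
    have cz := hz z (hg a ha)
    have cw := hz w (hg b hb)
    have ea : g * a * g⁻¹ = z * a := by rw [hz1]; group
    have eb : g * b * g⁻¹ = w * b := by rw [hw1]; group
    have e : g * ⁅a, b⁆ * g⁻¹ = ⁅a, b⁆ := by
      calc g * ⁅a, b⁆ * g⁻¹ = ⁅g * a * g⁻¹, g * b * g⁻¹⁆ := conjugate_commutatorElement a b g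
        _ = z * (a * w) * b * (a⁻¹ * z⁻¹) * (b⁻¹ * w⁻¹) := by
          rw [ea, eb, commutatorElement_def, _root_.mul_inv_rev, _root_.mul_inv_rev]; group
        _ = ⁅a, b⁆ := by
          rw [← (cw a).eq, ((cw b⁻¹).inv_left).symm.eq, ((cz a⁻¹).inv_left).symm.eq, commutatorElement_def]
          calc z * (w * a) * b * (z⁻¹ * a⁻¹) * (w⁻¹ * b⁻¹)
              = z * w * (a * b * z⁻¹) * (a⁻¹ * w⁻¹) * b⁻¹ := by group
            _ = z * w * (z⁻¹ * (a * b)) * (w⁻¹ * a⁻¹) * b⁻¹ := by
              rw [((cz (a * b)).inv_left).eq, ((cw a⁻¹).inv_left).eq]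
            _ = z * (w * (z⁻¹ * (a * b))) * w⁻¹ * a⁻¹ * b⁻¹ := by group
            _ = a * b * a⁻¹ * b⁻¹ := by rw [(cw (z⁻¹ * (a * b))).eq]; group
    exact (mul_inv_eq_iff_eq_mul.mp e).symm
  intro x hx
  rw [← hP] at hx
  exact (Subgroup.mem_centralizer_singleton_iff.mp (hle hx)).symm

section Density

variable [Finite F]

/-- The group spans the full matrix algebra. -/
theorem span_eq_top {N : Subgroup GLn} (habs : Cfsg.Geo.ActsAbsolutelyIrreducibly (Cfsg.Geo.matrixSet N))
    (hn : 0 < Fintype.card ι) : Submodule.span F (Cfsg.Geo.matrixSet N) = ⊤ := by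
  classical
  haveI : Nonempty ι := Fintype.card_pos_iff.mp hn
  set A := Algebra.adjoin F (Cfsg.Geo.matrixSet N) with hA
  have hspan : Subalgebra.toSubmodule A = Submodule.span F (Cfsg.Geo.matrixSet N) := by
    rw [hA, Algebra.adjoin_eq_span]
    congr 1
    refine Set.Subset.antisymm ?_ Submonoid.subset_closure
    intro x hx
    induction hx using Submonoid.closure_induction with
    | mem y hy => exact hy
    | one => exact ⟨1, N.one_mem, rfl⟩
    | mul a b _ _ ha hb =>
      obtain ⟨g, hg, rfl⟩ := ha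
      obtain ⟨h, hh, rfl⟩ := hb
      exact ⟨g * h, N.mul_mem hg hh, by simp⟩
  let act : A →+* Module.End F VV :=
    (Matrix.toLinAlgEquiv' : MM ≃ₐ[F] Module.End F VV).toAlgHom.toRingHom.comp A.val.toRingHom
  letI : Module A VV := Module.compHom VV act
  have hsmul : ∀ (a : A) (v : VV), a • v = (a : MM) *ᵥ v := fun a v => Matrix.toLin'_apply _ _
  haveI : SMulCommClass A F VV := ⟨fun a c v => by rw [hsmul, hsmul, Matrix.mulVec_smul]⟩
  haveI : IsSimpleModule A VV := by
    haveI : Nontrivial (Submodule A VV) := (Submodule.nontrivial_iff A).mpr inferInstance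
    refine (isSimpleModule_iff A VV).mpr { eq_bot_or_eq_top := fun W => ?_ }
    let W' : Submodule F VV :=
      { carrier := W
        add_mem' := W.add_mem
        zero_mem' := W.zero_mem
        smul_mem' := fun c v hv => by
          have key : (algebraMap F A c) • v = c • v := by
            rw [hsmul, Subalgebra.coe_algebraMap, Algebra.algebraMap_eq_smul_one, Matrix.smul_mulVec, Matrix.one_mulVec]
          exact key ▸ W.smul_mem (algebraMap F A c) hv }
    rcases habs.1 W' (by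
      rintro _ ⟨g, hg, rfl⟩ _ ⟨w, hw, rfl⟩
      rw [Matrix.toLin'_apply]
      exact (hsmul ⟨(g : MM), Algebra.subset_adjoin ⟨g, hg, rfl⟩⟩ w) ▸ W.smul_mem _ hw) with h | h
    · exact Or.inl (SetLike.ext fun v => (SetLike.ext_iff.mp h v).trans (by simp))
    · exact Or.inr (SetLike.ext fun v => (SetLike.ext_iff.mp h v).trans (by simp))
  have hend : ∀ φ : Module.End A VV, ∃ c : F, ∀ v, φ v = c • v := by
    intro φ
    have hlin : ∀ (c : F) (v : VV), φ (c • v) = c • φ v := by
      intro c v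
      have key : ∀ w : VV, (algebraMap F A c) • w = c • w := fun w => by
        rw [hsmul, Subalgebra.coe_algebraMap, Algebra.algebraMap_eq_smul_one, Matrix.smul_mulVec, Matrix.one_mulVec]
      rw [← key, ← key]
      exact φ.map_smul _ _
    let L : VV →ₗ[F] VV := { toFun := φ, map_add' := φ.map_add, map_smul' := hlin }
    obtain ⟨c, hc⟩ := habs.2 (LinearMap.toMatrix' L) (by
      rintro _ ⟨g, hg, rfl⟩
      refine eq_of_mulVec fun v => ?_
      rw [← Matrix.mulVec_mulVec, ← Matrix.mulVec_mulVec, LinearMap.toMatrix'_mulVec, LinearMap.toMatrix'_mulVec]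
      exact (φ.map_smul ⟨(g : MM), Algebra.subset_adjoin ⟨g, hg, rfl⟩⟩ v).trans (hsmul _ _) |> fun h => by
        first
        | exact h
        | exact (congrArg φ (hsmul ⟨(g : MM), Algebra.subset_adjoin ⟨g, hg, rfl⟩⟩ v)).symm.trans h)
    refine ⟨c, fun v => ?_⟩
    have := LinearMap.toMatrix'_mulVec L v
    rw [hc, Matrix.smul_mulVec, Matrix.one_mulVec] at this
    exact this.symm
  have htop : A = ⊤ := by
    rw [eq_top_iff]
    intro M _
    let f : Module.End (Module.End A VV) VV :=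
      { toFun := fun v => M *ᵥ v
        map_add' := fun a b => Matrix.mulVec_add M a b
        map_smul' := fun φ v => by
          obtain ⟨c, hc⟩ := hend φ
          simp [hc, Matrix.mulVec_smul] }
    haveI : Fintype VV := Fintype.ofFinite _
    obtain ⟨r, hr⟩ := jacobson_density f Finset.univ
    have : (r : MM) = M := eq_of_mulVec fun v => by rw [← hsmul]; exact (hr v (Finset.mem_univ v)).symm
    exact this ▸ r.2
  rw [← hspan, htop, Algebra.top_toSubmodule]

/-- A group abelian modulo scalars acting absolutely irreducibly, all of whose normalised proper subgroups are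
scalar, has prime power degree. -/
theorem isPrimePow_of_class_two {H N : Subgroup GLn} (hN : NormalisedBy H N) (hns : ¬ N ≤ ZZ)
    (hmin : ∀ M : Subgroup GLn, M ≤ N → NormalisedBy H M → M ≤ ZZ ∨ M = N)
    (habs : Cfsg.Geo.ActsAbsolutelyIrreducibly (Cfsg.Geo.matrixSet N))
    (hcomm : ∀ a ∈ N, ∀ b ∈ N, ⁅a, b⁆ ∈ ZZ) (hn : 2 ≤ Fintype.card ι) : IsPrimePow (Fintype.card ι) := by
  classical
  haveI : Nonempty ι := Fintype.card_pos_iff.mp (by omega)
  set Q := N.map (QuotientGroup.mk' ZZ) with hQ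
  have hQc : ∀ x ∈ Q, ∀ y ∈ Q, x * y = y * x := by
    rintro _ ⟨a, ha, rfl⟩ _ ⟨b, hb, rfl⟩
    have : QuotientGroup.mk' ZZ ⁅a, b⁆ = 1 := (QuotientGroup.eq_one_iff _).mpr (hcomm a ha b hb)
    rwa [map_commutatorElement, commutatorElement_eq_one_iff_mul_comm] at this
  have hQ1 : Nat.card Q ≠ 1 := by
    intro h
    refine hns fun x hx => (QuotientGroup.eq_one_iff x).mp ?_
    have : Q = ⊥ := Subgroup.card_eq_one.mp h
    exact (Subgroup.mem_bot).mp (this ▸ ⟨x, hx, rfl⟩)
  obtain ⟨r, hr, hrd⟩ := Nat.exists_prime_and_dvd hQ1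
  haveI : Fact r.Prime := ⟨hr⟩
  let M : Subgroup GLn :=
    { carrier := {x | x ∈ N ∧ (QuotientGroup.mk' ZZ x) ^ r = 1}
      one_mem' := ⟨N.one_mem, by rw [map_one, one_pow]⟩
      mul_mem' := fun {a b} ha hb => ⟨N.mul_mem ha.1 hb.1, by
        rw [map_mul, (show Commute _ _ from hQc _ ⟨a, ha.1, rfl⟩ _ ⟨b, hb.1, rfl⟩).mul_pow, ha.2, hb.2, one_mul]⟩
      inv_mem' := fun {a} ha => ⟨N.inv_mem ha.1, by rw [map_inv, inv_pow, ha.2, inv_one]⟩ }
  have hMN : M = N := by
    refine (hmin M (fun x hx => hx.1) fun h hh x hx => ⟨hN h hh x hx.1, ?_⟩).resolve_left fun hle => ?_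
    · rw [map_mul, map_mul, map_inv, conj_pow, hx.2]; simp
    · obtain ⟨⟨x, y, hy, rfl⟩, hx⟩ := exists_prime_orderOf_dvd_card' (G := Q) r hrd
      have hy1 : QuotientGroup.mk' ZZ y ^ r = 1 := by
        have := congrArg Subtype.val (hx ▸ pow_orderOf_eq_one (⟨_, y, hy, rfl⟩ : Q))
        simpa using this
      have h1 : QuotientGroup.mk' ZZ y = 1 := (QuotientGroup.eq_one_iff y).mpr (hle ⟨hy, hy1⟩)
      rw [orderOf_eq_one_iff.mpr (Subtype.ext h1)] at hx
      exact hr.one_lt.ne hx
  have hp : IsPGroup r Q := by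
    rintro ⟨_, y, hy, rfl⟩
    refine ⟨1, Subtype.ext ?_⟩
    have := (hMN.ge hy).2
    simpa using this
  haveI : Finite Q := inferInstance
  obtain ⟨e, he⟩ := hp.exists_card_eq
  -- representatives of the cosets form a basis
  choose rep hrepN hrep using fun x : Q => x.2
  have hli : LinearIndependent F fun x : Q => (rep x : MM) := by
    have hchar : ∀ (x : Q) (y : GLn), y ∈ N → ∃ c : F, (y : MM) * (rep x : MM) * ((y⁻¹ : GLn) : MM) = c • (rep x : MM) := by
      intro x y hy
      obtain ⟨c, hc⟩ := (Cfsg.Geo.mem_scalars_iff _).mp (hcomm y hy _ (hrepN x))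
      refine ⟨c, ?_⟩
      rw [← Units.val_mul, ← Units.val_mul, show y * rep x * y⁻¹ = ⁅y, rep x⁆ * rep x by
        rw [commutatorElement_def]; group, Units.val_mul, hc, Matrix.smul_mul, Matrix.one_mul]
    choose c hc using hchar
    let V' : Module.End F MM → Prop := fun _ => True
    refine linearIndependent_iff'.mpr fun s g hsum => ?_
    induction s using Finset.induction_on generalizing g with
    | empty => simp
    | @insert a s ha ih =>
      rw [Finset.sum_insert ha] at hsum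
      have hs0 : ∀ i ∈ s, g i = 0 := by
        intro i hi
        have hne : i ≠ a := fun h => ha (h ▸ hi)
        obtain ⟨y, hy, hyc⟩ : ∃ y, ∃ hy : y ∈ N, c i y hy ≠ c a y hy := by
          by_contra hall
          push Not at hall
          refine hne (Subtype.ext ?_)
          have hsc : (rep a)⁻¹ * rep i ∈ ZZ := by
            refine mem_scalars_of_commute (by omega) habs fun y hy => ?_
            have h1 := hc i y hy
            have h2 := hc a y hy
            rw [← hall y hy] at h2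
            have hia : (y * rep i * y⁻¹) * (rep i)⁻¹ = (y * rep a * y⁻¹) * (rep a)⁻¹ := by
              refine Units.ext ?_
              rw [Units.val_mul, Units.val_mul, Units.val_mul, h1, Units.val_mul, Units.val_mul, Units.val_mul, h2,
                Matrix.smul_mul, Matrix.smul_mul, Units.mul_inv, Units.mul_inv]
            calc (rep a)⁻¹ * rep i * y = (rep a)⁻¹ * (((y * rep i * y⁻¹) * (rep i)⁻¹)⁻¹ * y * rep i) := by group
              _ = (((rep a)⁻¹ * ((y * rep a * y⁻¹) * (rep a)⁻¹)⁻¹)) * y * rep i := by rw [hia]; group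
              _ = y * ((rep a)⁻¹ * rep i) := by group
          have := (QuotientGroup.eq_one_iff _).mpr hsc
          rw [← hrep i, ← hrep a]
          exact ((mul_eq_one_iff_inv_eq.mp (by simpa using this : (QuotientGroup.mk' ZZ (rep a))⁻¹ *
            QuotientGroup.mk' ZZ (rep i) = 1)).symm.trans (inv_inv _))
        have h2 := congrArg (fun X => (y : MM) * X * ((y⁻¹ : GLn) : MM)) hsum
        simp only [mul_add, add_mul, Finset.mul_sum, Finset.sum_mul, Matrix.mul_smul, Matrix.smul_mul, hc _ y hy,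
          mul_zero, zero_mul] at h2
        have h3 := congrArg (fun X => c a y hy • X) hsum
        simp only [smul_add, Finset.smul_sum, smul_zero] at h3
        have h4 : ∑ j ∈ s, (g j * (c j y hy - c a y hy)) • (rep j : MM) = 0 := by
          have := (congrArg₂ (· - ·) h2 h3).trans (sub_zero 0)
          rw [smul_comm (g a) (c a y hy), add_sub_add_left_eq_sub, ← Finset.sum_sub_distrib] at this
          rw [← this]
          exact Finset.sum_congr rfl fun j _ => by rw [smul_smul, smul_smul, ← sub_smul]; ring_nf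
        exact (mul_eq_zero.mp (ih _ h4 i hi)).resolve_right (sub_ne_zero.mpr hyc)
      intro i hi
      rcases Finset.mem_insert.mp hi with rfl | hi
      · rw [Finset.sum_eq_zero fun j hj => by rw [hs0 j hj, zero_smul], add_zero] at hsum
        exact (smul_eq_zero.mp hsum).resolve_right (Units.ne_zero _)
      · exact hs0 i hi
  have hspan : ⊤ ≤ Submodule.span F (Set.range fun x : Q => (rep x : MM)) := by
    rw [← span_eq_top habs (by omega), Submodule.span_le]
    rintro _ ⟨g, hg, rfl⟩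
    let x : Q := ⟨_, g, hg, rfl⟩
    obtain ⟨z, hz, hzg⟩ := (QuotientGroup.mk'_eq_mk' ZZ).mp (hrep x)
    obtain ⟨c, hc⟩ := (Cfsg.Geo.mem_scalars_iff z).mp hz
    have : (g : MM) = (c : F) • (rep x : MM) := by
      rw [show g = rep x * z from hzg.symm, Units.val_mul, hc, Matrix.mul_smul, Matrix.mul_one]
    show (g : MM) ∈ _
    rw [this]
    exact Submodule.smul_mem _ _ (Submodule.subset_span ⟨x, rfl⟩)
  haveI : Fintype Q := Fintype.ofFinite _
  have hfr := Module.finrank_eq_card_basis (Module.Basis.mk hli hspan)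
  rw [Module.finrank_matrix, Module.finrank_self, mul_one, ← Nat.card_eq_fintype_card (α := Q), he] at hfr
  obtain ⟨a, -, ha⟩ := (Nat.dvd_prime_pow hr).mp (hfr ▸ dvd_mul_right (Fintype.card ι) (Fintype.card ι))
  exact (isPrimePow_nat_iff _).mpr ⟨r, a, hr, Nat.pos_of_ne_zero (by rintro rfl; simp at ha; omega), ha.symm⟩

/-- The conjugate `h M h⁻¹`. -/
def conjBy (M : Subgroup GLn) (h : GLn) : Subgroup GLn := M.map (MulAut.conj h).toMonoidHom

theorem mem_conjBy {M : Subgroup GLn} (h x : GLn) : x ∈ conjBy M h ↔ h⁻¹ * x * h ∈ M := by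
  constructor
  · rintro ⟨y, hy, rfl⟩
    simpa [mul_assoc] using hy
  · exact fun hx => ⟨_, hx, by simp [mul_assoc]⟩

theorem conjBy_le {H N M : Subgroup GLn} (hN : NormalisedBy H N) (hMN : M ≤ N) {h : GLn} (hh : h ∈ H) :
    conjBy M h ≤ N := by
  rintro _ ⟨y, hy, rfl⟩
  exact hN h hh y (hMN hy)

theorem normalisedBy_conjBy {H N M : Subgroup GLn} (hN : NormalisedBy H N) (hMn : NormalisedBy N M) {h : GLn}
    (hh : h ∈ H) : NormalisedBy N (conjBy M h) := by
  intro g hg x hx
  rw [mem_conjBy] at hx ⊢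
  have := hMn (h⁻¹ * g * h) (by simpa using hN h⁻¹ (inv_mem hh) g hg) _ hx
  convert this using 1
  group

/-- A minimal factor is perfect. -/
theorem factor_perfect {H N M : Subgroup GLn} (hN : NormalisedBy H N) (hmin : ∀ M : Subgroup GLn, M ≤ N → NormalisedBy H M → M ≤ ZZ ∨ M = N)
    (hperf : ⁅N, N⁆ = N) (hMN : M ≤ N) (hMn : NormalisedBy N M) (hMs : ¬ M ≤ ZZ)
    (hMmin : ∀ L : Subgroup GLn, L ≤ M → NormalisedBy N L → L ≤ ZZ ∨ L = M) : ⁅M, M⁆ = M := by
  classical
  refine (hMmin _ (Subgroup.commutator_le.mpr fun a ha b hb => ?_) (normalisedBy_commutator hMn)).resolve_left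
    fun hle => hMs ?_
  · rw [commutatorElement_def]
    exact mul_mem (mul_mem (mul_mem ha hb) (inv_mem ha)) (inv_mem hb)
  -- otherwise all conjugates commute modulo scalars
  set q := QuotientGroup.mk' ZZ
  set J := ⨆ h : H, conjBy M (h : GLn) with hJ
  have hJN : J = N := by
    have hJle : J ≤ N := iSup_le fun h => conjBy_le hN hMN h.2
    refine (hmin J hJle ?_).resolve_left fun hh => hMs fun x hx => hh ?_
    · intro g hg x hx
      have hmap : J.map (MulAut.conj g).toMonoidHom ≤ J := by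
        rw [hJ, Subgroup.map_iSup]
        refine iSup_le fun h => ?_
        rw [conjBy, Subgroup.map_map]
        refine le_iSup_of_le (⟨g * (h : GLn), H.mul_mem hg h.2⟩ : H) (le_of_eq ?_)
        rw [conjBy]
        congr 1
        ext y
        simp [mul_assoc]
      exact hmap (Subgroup.mem_map_of_mem _ hx)
    · exact le_iSup (fun h : H => conjBy M (h : GLn)) 1 ((mem_conjBy _ x).mpr (by simpa using hx))
  have hqc : ∀ h ∈ H, ∀ h' ∈ H, ∀ a ∈ conjBy M h, ∀ b ∈ conjBy M h', q a * q b = q b * q a := by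
    intro h hh h' hh' a ha b hb
    rw [← commutatorElement_eq_one_iff_mul_comm, ← map_commutatorElement]
    refine (QuotientGroup.eq_one_iff _).mpr ?_
    by_cases he : conjBy M h = conjBy M h'
    · have h1 := (mem_conjBy h a).mp ha
      have h2 := (mem_conjBy h b).mp (he ▸ hb)
      have hz := hle (Subgroup.commutator_mem_commutator h1 h2)
      have := (Cfsg.Geo.scalars_normal (ι := ι) (F := F)).conj_mem _ hz h
      rwa [conjugate_commutatorElement, show h * (h⁻¹ * a * h) * h⁻¹ = a by group,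
        show h * (h⁻¹ * b * h) * h⁻¹ = b by group] at this
    · by_contra hns
      have hi : conjBy M h ⊓ conjBy M h' = conjBy M h ∧ conjBy M h ⊓ conjBy M h' = conjBy M h' := by
        have hc : ∀ k ∈ H, ∀ L ≤ conjBy M k, NormalisedBy N L → ¬ L ≤ ZZ → L = conjBy M k := by
          intro k hk L hL hLn hLs
          have h3 := (hMmin (L.map (MulAut.conj k⁻¹).toMonoidHom) ?_ ?_).resolve_left fun hh => hLs fun x hx => ?_
          · refine le_antisymm hL fun x hx => ?_
            obtain ⟨y, hy, e⟩ := h3.ge ((mem_conjBy k x).mp hx)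
            simp only [MulEquiv.coe_toMonoidHom, MulAut.conj_apply, inv_inv] at e
            rwa [mul_left_cancel (mul_right_cancel e)] at hy
          · rintro _ ⟨y, hy, rfl⟩
            simpa using (mem_conjBy k y).mp (hL hy)
          · rintro g hg _ ⟨y, hy, rfl⟩
            refine ⟨(k * g * k⁻¹) * y * (k * g * k⁻¹)⁻¹, hLn _ (hN k hk g hg) y hy, ?_⟩
            simp [mul_assoc]
          · have hz := hh ⟨x, hx, rfl⟩
            simpa [mul_assoc] using (Cfsg.Geo.scalars_normal (ι := ι) (F := F)).conj_mem _ hz k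
        have hI : ¬ conjBy M h ⊓ conjBy M h' ≤ ZZ := fun hI => hns (hI ⟨?_, ?_⟩)
        · exact ⟨hc h hh _ inf_le_left (fun g hg x hx => ⟨normalisedBy_conjBy hN hMn hh g hg x hx.1, normalisedBy_conjBy hN hMn hh' g hg x hx.2⟩) hI,
            hc h' hh' _ inf_le_right (fun g hg x hx => ⟨normalisedBy_conjBy hN hMn hh g hg x hx.1, normalisedBy_conjBy hN hMn hh' g hg x hx.2⟩) hI⟩
        · rw [commutatorElement_def, mul_assoc, mul_assoc, ← mul_assoc b]
          exact Subgroup.mul_mem _ ha (normalisedBy_conjBy hN hMn hh b (conjBy_le hN hMN hh' hb) _ (Subgroup.inv_mem _ ha))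
        · rw [commutatorElement_def]
          exact Subgroup.mul_mem _ (normalisedBy_conjBy hN hMn hh' a (conjBy_le hN hMN hh ha) _ hb) (Subgroup.inv_mem _ hb)
      exact he (hi.1.symm.trans hi.2)
  have hall : ∀ x ∈ J, ∀ h ∈ H, ∀ a ∈ conjBy M h, q x * q a = q a * q x := by
    intro x hx h hh a ha
    have hle' : J ≤ (Subgroup.centralizer {q a}).comap q := iSup_le fun h' b hb => by
      rw [Subgroup.mem_comap, Subgroup.mem_centralizer_singleton_iff]
      exact hqc h' h'.2 h hh b hb a ha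
    exact Subgroup.mem_centralizer_singleton_iff.mp (hle' hx)
  have hNz : ⁅N, N⁆ ≤ ZZ := by
    refine Subgroup.commutator_le.mpr fun a ha b hb => (QuotientGroup.eq_one_iff _).mp ?_
    show q ⁅a, b⁆ = 1
    rw [map_commutatorElement, commutatorElement_eq_one_iff_mul_comm]
    have hle' : J ≤ (Subgroup.centralizer {q b}).comap q := iSup_le fun h x hx => by
      rw [Subgroup.mem_comap, Subgroup.mem_centralizer_singleton_iff]
      exact (hall b (hJN.ge hb) h h.2 x hx).symm
    exact Subgroup.mem_centralizer_singleton_iff.mp (hle' (hJN.ge ha))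
  exact hMN.trans (hperf ▸ hNz)

/-- The other conjugates of a minimal factor centralise it and generate with it. -/
theorem exists_factors {H N M : Subgroup GLn} (hN : NormalisedBy H N) (hmin : ∀ M : Subgroup GLn, M ≤ N → NormalisedBy H M → M ≤ ZZ ∨ M = N)
    (hMN : M ≤ N) (hMn : NormalisedBy N M) (hMs : ¬ M ≤ ZZ) (hMperf : ⁅M, M⁆ = M)
    (hMmin : ∀ L : Subgroup GLn, L ≤ M → NormalisedBy N L → L ≤ ZZ ∨ L = M) (hne : M ≠ N) :
    ∃ (C : Subgroup GLn) (h₀ : GLn), M ⊔ C = N ∧ (∀ c ∈ C, ∀ x ∈ M, c * x = x * c) ∧ h₀ ∈ H ∧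
      conjBy M h₀ ≤ C := by
  classical
  -- conjugates different from M centralise it
  set C := ⨆ h : {h : GLn // h ∈ H ∧ conjBy M h ≠ M}, conjBy M (h : GLn) with hC
  have hcomm : ∀ c ∈ C, ∀ x ∈ M, c * x = x * c := by
    have hle : C ≤ Subgroup.centralizer (M : Set GLn) := by
      rw [hC]
      refine iSup_le fun ⟨h, hh⟩ c hc => ?_
      rw [Subgroup.mem_centralizer_iff]
      intro x hx
      refine (commute_of_perfect hMperf (g := c) (fun y hy => ?_) x hx).symm
      by_contra hns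
      have hy1 : c * y * c⁻¹ * y⁻¹ ∈ M := mul_mem (hMn c ((conjBy_le hN hMN hh.1) hc) y hy) (inv_mem hy)
      have hy2 : c * y * c⁻¹ * y⁻¹ ∈ conjBy M h := by
        rw [mul_assoc, mul_assoc, ← mul_assoc y]
        exact mul_mem hc (normalisedBy_conjBy hN hMn hh.1 y (hMN hy) _ (inv_mem hc))
      have hI := (hMmin (M ⊓ conjBy M h) inf_le_left
        (fun g hg z hz => ⟨hMn g hg z hz.1, normalisedBy_conjBy hN hMn hh.1 g hg z hz.2⟩)).resolve_left fun hle => hns (hle ⟨hy1, hy2⟩)
      have hcard : Nat.card (conjBy M h) ≤ Nat.card M := by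
        rw [conjBy]
        exact le_of_eq (Subgroup.card_map_of_injective (MulAut.conj h).injective)
      exact hh.2 (Subgroup.eq_of_le_of_card_ge (inf_eq_left.mp hI) hcard).symm
    exact fun c hc x hx => (Subgroup.mem_centralizer_iff.mp (hle hc) x hx).symm
  have hsup : M ⊔ C = N := by
    have hle : M ⊔ C ≤ N := by
      rw [hC]
      exact sup_le hMN (iSup_le fun h => conjBy_le hN hMN h.2.1)
    refine (hmin _ hle ?_).resolve_left fun h => hMs (le_trans le_sup_left h)
    intro g hg x hx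
    have key : ∀ k ∈ H, conjBy M k ≤ M ⊔ C := fun k hk => by
      by_cases he : conjBy M k = M
      · exact he.le.trans le_sup_left
      · rw [hC]
        exact le_trans (le_iSup (fun h : {h : GLn // h ∈ H ∧ conjBy M h ≠ M} => conjBy M (h : GLn)) ⟨k, hk, he⟩)
          le_sup_right
    have hmap : (M ⊔ C).map (MulAut.conj g).toMonoidHom ≤ M ⊔ C := by
      rw [Subgroup.map_sup]
      refine sup_le (key g hg) ?_
      conv_lhs => rw [hC, Subgroup.map_iSup]
      refine iSup_le fun h => ?_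
      rw [conjBy, Subgroup.map_map]
      refine (le_of_eq ?_).trans (key (g * (h : GLn)) (H.mul_mem hg h.2.1))
      rw [conjBy]
      congr 1
      ext y
      simp [mul_assoc]
    exact hmap (Subgroup.mem_map_of_mem _ hx)
  obtain ⟨h₀, hh₀, hM'⟩ : ∃ h ∈ H, conjBy M h ≠ M := by
    by_contra hall
    push Not at hall
    exact ((hmin M hMN fun h hh x hx => (hall h hh).le ⟨x, hx, rfl⟩).elim hMs hne)
  have hM'C : conjBy M h₀ ≤ C := by
    rw [hC]
    exact le_iSup (fun h : {h : GLn // h ∈ H ∧ conjBy M h ≠ M} => conjBy M (h : GLn)) ⟨h₀, hh₀, hM'⟩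
  exact ⟨C, h₀, hsup, hcomm, hh₀, hM'C⟩

theorem inv_of_sup {N M C : Subgroup GLn} (hsup : M ⊔ C = N) :
    ∀ U : Submodule F VV, Inv M U → Inv C U → Inv N U := by
  intro U hU hU' g hg
  have hst : ∀ {K : Subgroup GLn}, Inv K U → K ≤ Cfsg.Geo.subspaceStabilizer U := fun {K} hK x hx v =>
    ⟨fun hv => hK x hx v hv, fun hv => by
      have := hK x⁻¹ (inv_mem hx) _ hv
      erw [inv_mul_cancel_vec] at this
      exact this⟩
  exact fun w hw => ((hsup ▸ sup_le (hst hU) (hst hU') : N ≤ _) hg w).mp hw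

/-- The blocks of an absolutely irreducible product of two commuting groups. -/
theorem exists_tensor_blocks {N M C : Subgroup GLn} (hn : 0 < Fintype.card ι) (hsup : M ⊔ C = N) (hcomm : ∀ c ∈ C, ∀ x ∈ M, c * x = x * c)
    (habs : Cfsg.Geo.ActsAbsolutelyIrreducibly (Cfsg.Geo.matrixSet N)) :
    ∃ (d k : ℕ) (A : M → Matrix (Fin d) (Fin d) F) (φ : Fin k → ((Fin d → F) →ₗ[F] VV)),
      0 < d ∧ 0 < k ∧ d * k = Fintype.card ι ∧ Function.Bijective (assemble φ) ∧
      (∀ U : Submodule F (Fin d → F), (∀ m, ∀ u ∈ U, A m *ᵥ u ∈ U) → U = ⊥ ∨ U = ⊤) ∧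
      (∀ (m : M) v, ((m : GLn) : MM) *ᵥ assemble φ v = assemble φ (fun j => A m *ᵥ v j)) ∧
      (∀ c ∈ C, ∃ β : Matrix (Fin k) (Fin k) F,
        ∀ v, (c : MM) *ᵥ assemble φ v = assemble φ fun a => ∑ b, β a b • v b) := by
  haveI : Nonempty ι := Fintype.card_pos_iff.mp hn
  have hNirr := (actsIrreducibly_iff N).mp habs.1
  have hinv := inv_of_sup hsup
  classical
  -- an irreducible constituent of M
  obtain ⟨W, ⟨hW, hW0⟩, hWmin⟩ := Set.Finite.exists_minimal
    (Set.toFinite {W : Submodule F VV | Inv M W ∧ W ≠ ⊥}) ⟨⊤, fun _ _ _ _ => trivial, top_ne_bot⟩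
  set d := Module.finrank F W
  let ψ : (Fin d → F) →ₗ[F] VV := W.subtype ∘ₗ (Module.finBasis F W).equivFun.symm.toLinearMap
  have hψi : Function.Injective ψ := W.subtype_injective.comp (Module.finBasis F W).equivFun.symm.injective
  have hψW : ∀ v ∈ W, ∃ x, ψ x = v := fun v hv => ⟨(Module.finBasis F W).equivFun ⟨v, hv⟩, by simp [ψ]⟩
  have hψm : ∀ x, ψ x ∈ W := fun x => Subtype.coe_prop _
  obtain ⟨π, hπ⟩ := LinearMap.exists_leftInverse_of_injective ψ (LinearMap.ker_eq_bot.mpr hψi)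
  let A : M → Matrix (Fin d) (Fin d) F := fun m =>
    LinearMap.toMatrix' (π ∘ₗ Matrix.toLin' ((m : GLn) : MM) ∘ₗ ψ)
  have hψe : ∀ (m : M) x, ((m : GLn) : MM) *ᵥ ψ x = ψ (A m *ᵥ x) := by
    intro m x
    obtain ⟨y, hy⟩ := hψW _ (hW m m.2 _ (hψm x))
    have h1 : π (ψ y) = y := LinearMap.congr_fun hπ y
    simp only [A, LinearMap.toMatrix'_mulVec, LinearMap.comp_apply, Matrix.toLin'_apply, ← hy, h1]
  have hirr : ∀ U : Submodule F (Fin d → F), (∀ m, ∀ u ∈ U, A m *ᵥ u ∈ U) → U = ⊥ ∨ U = ⊤ := by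
    intro U hU
    by_cases h0 : U = ⊥
    · exact Or.inl h0
    refine Or.inr (eq_top_iff.mpr fun x _ => ?_)
    have hI : Inv M (U.map ψ) := by
      rintro g hg _ ⟨u, hu, rfl⟩
      exact ⟨_, hU ⟨g, hg⟩ u hu, (hψe ⟨g, hg⟩ u).symm⟩
    have hne0 : U.map ψ ≠ ⊥ := fun h => h0 (Submodule.map_injective_of_injective hψi (by simpa using h))
    have hle : U.map ψ ≤ W := by rintro _ ⟨u, -, rfl⟩; exact hψm u
    obtain ⟨u, hu, e⟩ := hWmin ⟨hI, hne0⟩ hle (hψm x)
    exact hψi e ▸ hu
  obtain ⟨k, φ, hequiv, hbij⟩ := exists_blocks A hirr fun U hU => by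
    let S : Submodule F VV := Submodule.span F {v | ∃ c ∈ C, ∃ x, v = (c : MM) *ᵥ ψ x}
    have hSU : S ≤ U := Submodule.span_le.mpr fun v ⟨c, hc, x, e⟩ => by
      refine e ▸ hU ((Matrix.toLin' (c : MM)) ∘ₗ ψ) (fun m y => ?_) x
      simp only [LinearMap.comp_apply, Matrix.toLin'_apply]
      rw [← hψe, Matrix.mulVec_mulVec, Matrix.mulVec_mulVec, ← Units.val_mul, ← Units.val_mul, hcomm c hc m m.2]
    have hS : Inv N S := by
      refine hinv S (fun g hg w hw => ?_) (fun g hg w hw => ?_) <;>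
      induction hw using Submodule.span_induction with
      | mem v hv =>
        obtain ⟨c, hc, x, rfl⟩ := hv
        first
        | exact Submodule.subset_span ⟨c, hc, A ⟨g, hg⟩ *ᵥ x, by
            rw [← hψe, Matrix.mulVec_mulVec, Matrix.mulVec_mulVec, ← Units.val_mul, ← Units.val_mul, hcomm c hc g hg]⟩
        | exact Submodule.subset_span ⟨g * c, mul_mem hg hc, x, by rw [Matrix.mulVec_mulVec, Units.val_mul]⟩
      | zero => simp
      | add a b _ _ iha ihb => rw [Matrix.mulVec_add]; exact add_mem iha ihb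
      | smul t a _ iha => rw [Matrix.mulVec_smul]; exact Submodule.smul_mem _ _ iha
    refine top_le_iff.mp (((hNirr S hS).resolve_left fun h => hW0 ?_).ge.trans hSU)
    rw [eq_bot_iff]
    intro v hv
    obtain ⟨x, rfl⟩ := hψW v hv
    exact h ▸ Submodule.subset_span ⟨1, one_mem _, x, by simp⟩
  set Sb := assemble φ
  let Φ := LinearEquiv.ofBijective Sb hbij
  have hnd : d * k = Fintype.card ι := by
    have := Φ.finrank_eq
    rw [Module.finrank_pi_fintype, Module.finrank_fintype_fun_eq_card] at this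
    simpa [mul_comm] using this
  have hSm : ∀ (m : M) v, ((m : GLn) : MM) *ᵥ Sb v = Sb (fun j => A m *ᵥ v j) := fun m v => by
    simp only [Sb, assemble, LinearMap.coe_mk, AddHom.coe_mk, Matrix.mulVec_sum, hequiv]
  -- blocks of a matrix commuting with M
  have hblock : ∀ X : MM, (∀ m : M, X * ((m : GLn) : MM) = ((m : GLn) : MM) * X) →
      ∃ B : Fin k → Fin k → Matrix (Fin d) (Fin d) F, (∀ a b m, B a b * A m = A m * B a b) ∧
        ∀ v, X *ᵥ Sb v = Sb fun a => ∑ b, B a b *ᵥ v b := by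
    intro X hX
    let T : (Fin k → Fin d → F) →ₗ[F] (Fin k → Fin d → F) :=
      Φ.symm.toLinearMap ∘ₗ Matrix.toLin' X ∘ₗ Φ.toLinearMap
    have hT : ∀ v, X *ᵥ Sb v = Sb (T v) := fun v =>
      (Φ.apply_symm_apply _).symm
    let B : Fin k → Fin k → Matrix (Fin d) (Fin d) F := fun a b =>
      LinearMap.toMatrix' ((LinearMap.proj a).comp (T.comp (LinearMap.single F (fun _ => Fin d → F) b)))
    have hB : ∀ a b x, B a b *ᵥ x = T (Pi.single b x) a := fun a b x => by
      rw [← Matrix.toLin'_apply]; simp [B]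
    refine ⟨B, fun a b m => eq_of_mulVec fun x => ?_, fun v => ?_⟩
    · rw [← Matrix.mulVec_mulVec, ← Matrix.mulVec_mulVec, hB, hB]
      have e : T (Pi.single b (A m *ᵥ x)) = fun j => A m *ᵥ T (Pi.single b x) j := by
        refine hbij.1 ?_
        rw [← hT, ← hSm, ← hT, Matrix.mulVec_mulVec, ← hX, ← Matrix.mulVec_mulVec,
          hSm]
        congr 2
        funext j
        by_cases hj : j = b
        · subst hj; simp
        · simp [hj]
      rw [e]
    · rw [hT]
      congr 1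
      funext a
      conv_lhs => rw [← Finset.univ_sum_single v, map_sum, Finset.sum_apply]
      simp [hB]
  -- intertwiners of A form a field
  let E := Subalgebra.centralizer F (Set.range A)
  have hE : ∀ {X}, X ∈ E ↔ ∀ m, X * A m = A m * X := by
    intro X
    rw [Subalgebra.mem_centralizer_iff]
    exact ⟨fun h m => (h _ ⟨m, rfl⟩).symm, by rintro h _ ⟨m, rfl⟩; exact (h m).symm⟩
  haveI : Finite E := Finite.of_injective (fun x : E => (x : Matrix (Fin d) (Fin d) F)) Subtype.val_injective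
  have hEu : ∀ X ∈ E, X ≠ 0 → IsUnit X := by
    intro X hX hX0
    rw [← Matrix.mulVec_injective_iff_isUnit]
    have hker : LinearMap.ker (Matrix.toLin' X) = ⊥ := by
      refine (hirr _ fun m u hu => ?_).resolve_right fun h => hX0 ?_
      · rw [LinearMap.mem_ker, Matrix.toLin'_apply] at hu ⊢
        rw [Matrix.mulVec_mulVec, hE.mp hX, ← Matrix.mulVec_mulVec, hu, Matrix.mulVec_zero]
      · exact Matrix.toLin'.injective (by rw [map_zero]; exact LinearMap.ker_eq_top.mp h)
    intro a b hab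
    exact LinearMap.ker_eq_bot.mp hker (by simpa [Matrix.toLin'_apply] using hab)
  have hd : 0 < d := Nat.pos_of_ne_zero fun h => hn.ne' (by rw [← hnd, h, zero_mul])
  have hk : 0 < k := Nat.pos_of_ne_zero fun h => hn.ne' (by rw [← hnd, h, mul_zero])
  haveI : Nonempty (Fin d) := ⟨⟨0, hd⟩⟩
  haveI : Nonempty (Fin k) := ⟨⟨0, hk⟩⟩
  haveI : Nontrivial E :=
    ⟨⟨0, 1, fun h => zero_ne_one (α := Matrix (Fin d) (Fin d) F) (congrArg Subtype.val h)⟩⟩
  haveI : NoZeroDivisors E := ⟨fun {a b} hab => by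
    by_cases ha : a = 0
    · exact Or.inl ha
    · exact Or.inr (Subtype.ext ((hEu a a.2 fun h => ha (Subtype.ext h)).mul_right_eq_zero.mp
        (congrArg Subtype.val hab)))⟩
  haveI : IsDomain E := NoZeroDivisors.to_isDomain E
  have hEc : ∀ X ∈ E, ∀ Y ∈ E, X * Y = Y * X := fun X hX Y hY =>
    congrArg Subtype.val ((Finite.isDomain_to_isField E).mul_comm (⟨X, hX⟩ : E) ⟨Y, hY⟩)
  have hscal : ∀ X : Matrix (Fin d) (Fin d) F, (∀ m, X * A m = A m * X) → ∃ c : F, X = c • 1 := by
    intro X hX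
    let G : VV →ₗ[F] VV := Sb ∘ₗ (LinearMap.pi fun j => Matrix.toLin' X ∘ₗ LinearMap.proj j) ∘ₗ Φ.symm.toLinearMap
    have hG : ∀ v, G (Sb v) = Sb fun j => X *ᵥ v j := fun v => by
      have : Φ.symm (Sb v) = v := Φ.symm_apply_apply v
      simp only [G, LinearMap.comp_apply, LinearEquiv.coe_coe, this]
      rfl
    set g := LinearMap.toMatrix' G
    have hgc : ∀ x ∈ M ⊔ C, (x : MM) * g = g * (x : MM) := by
      intro x hx
      rw [Subgroup.sup_eq_closure] at hx
      induction hx using Subgroup.closure_induction with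
      | one => simp
      | mem y hy =>
        refine eq_of_mulVec fun w => ?_
        obtain ⟨v, rfl⟩ := hbij.2 w
        rw [← Matrix.mulVec_mulVec, ← Matrix.mulVec_mulVec, LinearMap.toMatrix'_mulVec, LinearMap.toMatrix'_mulVec,
          hG]
        rcases hy with hy | hy
        · rw [hSm ⟨y, hy⟩, hSm ⟨y, hy⟩, hG]
          congr 1
          funext j
          rw [Matrix.mulVec_mulVec, Matrix.mulVec_mulVec, hX]
        · obtain ⟨B, hB, hBv⟩ := hblock (y : MM) fun m => by
            rw [← Units.val_mul, ← Units.val_mul, hcomm y hy m m.2]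
          rw [hBv, hBv, hG]
          congr 1
          funext a
          rw [Matrix.mulVec_sum]
          exact Finset.sum_congr rfl fun b _ => by
            rw [Matrix.mulVec_mulVec, Matrix.mulVec_mulVec, hEc X (hE.mpr hX) _ (hE.mpr (hB a b))]
      | inv y _ hy => exact (Commute.units_inv_left hy).eq
      | mul y z _ _ hy hz => rw [Units.val_mul, mul_assoc, hz, ← mul_assoc, hy, mul_assoc]
    obtain ⟨c, hc⟩ := habs.2 g (by rintro _ ⟨x, hx, rfl⟩; exact (hgc x (hsup ▸ hx)).symm)
    refine ⟨c, eq_of_mulVec fun u => ?_⟩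
    let a₀ : Fin k := ⟨0, hk⟩
    have h1 := hG (Pi.single a₀ u)
    rw [← LinearMap.toMatrix'_mulVec, show LinearMap.toMatrix' G = g from rfl, hc, Matrix.smul_mulVec, Matrix.one_mulVec,
      ← map_smul] at h1
    have h2 := congrFun (hbij.1 h1) a₀
    simpa [Matrix.smul_mulVec] using h2.symm
  refine ⟨d, k, A, φ, hd, hk, hnd, hbij, hirr, hSm, fun c hc => ?_⟩
  obtain ⟨B, hB, hBv⟩ := hblock (c : MM) fun m => by
    rw [← Units.val_mul, ← Units.val_mul, hcomm c hc m m.2]
  choose β hβ using fun a b => hscal _ (hB a b)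
  refine ⟨Matrix.of β, fun v => ?_⟩
  rw [hBv]
  congr 1
  funext a
  exact Finset.sum_congr rfl fun b _ => by rw [hβ, Matrix.smul_mulVec, Matrix.one_mulVec, Matrix.of_apply]

/-- A conjugate of a factor inside the complementary factor forces the dimension to divide the multiplicity. -/
theorem dvd_multiplicity {N M C : Subgroup GLn} {d k : ℕ} {A : M → Matrix (Fin d) (Fin d) F} {φ : Fin k → ((Fin d → F) →ₗ[F] VV)}
    {h₀ : GLn} (hd : 0 < d) (hk : 0 < k) (hsup : M ⊔ C = N) (hM'C : conjBy M h₀ ≤ C)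
    (hcn : NormalisedBy N (conjBy M h₀))
    (habs : Cfsg.Geo.ActsAbsolutelyIrreducibly (Cfsg.Geo.matrixSet N))
    (hbij : Function.Bijective (assemble φ))
    (hirr : ∀ U : Submodule F (Fin d → F), (∀ m, ∀ u ∈ U, A m *ᵥ u ∈ U) → U = ⊥ ∨ U = ⊤)
    (hSm : ∀ (m : M) v, ((m : GLn) : MM) *ᵥ assemble φ v = assemble φ (fun j => A m *ᵥ v j))
    (hcoef' : ∀ c ∈ C, ∃ β : Matrix (Fin k) (Fin k) F,
      ∀ v, (c : MM) *ᵥ assemble φ v = assemble φ fun a => ∑ b, β a b • v b) : d ∣ k := by
  haveI : Nonempty (Fin d) := ⟨⟨0, hd⟩⟩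
  haveI : Nonempty (Fin k) := ⟨⟨0, hk⟩⟩
  have hNirr := (actsIrreducibly_iff N).mp habs.1
  have hinv := inv_of_sup hsup
  set Sb := assemble φ
  let Φ := LinearEquiv.ofBijective Sb hbij
  let x₀ : Fin d → F := Pi.single ⟨0, hd⟩ 1
  let L : (Fin k → F) →ₗ[F] VV := Sb ∘ₗ LinearMap.pi fun j => (LinearMap.proj j).smulRight x₀
  have hL : ∀ u, L u = Sb fun j => u j • x₀ := fun u => rfl
  have hLi : Function.Injective L := fun u w h => by
    funext j
    have := congrFun (congrFun (hbij.1 ((hL u).symm.trans (h.trans (hL w)))) j) ⟨0, hd⟩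
    simpa [x₀] using this
  have hcoef : ∀ c ∈ C, ∃ β : Matrix (Fin k) (Fin k) F,
      (∀ v, (c : MM) *ᵥ Sb v = Sb fun a => ∑ b, β a b • v b) ∧ ∀ u, (c : MM) *ᵥ L u = L (β *ᵥ u) := by
    intro c hc
    obtain ⟨β, hβ⟩ := hcoef' c hc
    refine ⟨β, hβ, fun u => ?_⟩
    rw [hL, hβ, hL]
    congr 1
    funext a
    simp [Matrix.mulVec, dotProduct, Finset.sum_smul, smul_smul]
  -- every minimal M-invariant subspace has dimension d
  have hsimple : ∀ U : Submodule F VV, Inv M U → U ≠ ⊥ → (∀ U', Inv M U' → U' ≤ U → U' = ⊥ ∨ U' = U) →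
      Module.finrank F U = d := by
    intro U hU hU0 hUs
    obtain ⟨u, hu, hu0⟩ := (Submodule.ne_bot_iff U).mp hU0
    obtain ⟨a, ha⟩ : ∃ a, Φ.symm u a ≠ 0 :=
      Function.ne_iff.mp fun h => hu0 ((LinearEquiv.map_eq_zero_iff Φ.symm).mp h)
    let p : U →ₗ[F] (Fin d → F) := LinearMap.proj a ∘ₗ Φ.symm.toLinearMap ∘ₗ U.subtype
    have hpe : ∀ (m : M) (w : U), p ⟨_, hU m m.2 w w.2⟩ = A m *ᵥ p w := by
      intro m w
      show Φ.symm (((m : GLn) : MM) *ᵥ (w : VV)) a = A m *ᵥ Φ.symm (w : VV) a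
      obtain ⟨v, hv⟩ := hbij.2 (w : VV)
      rw [← hv, hSm]
      show Φ.symm (Φ fun j => A m *ᵥ v j) a = A m *ᵥ Φ.symm (Φ v) a
      rw [Φ.symm_apply_apply, Φ.symm_apply_apply]
    have hker : LinearMap.ker p = ⊥ := by
      rcases hUs ((LinearMap.ker p).map U.subtype) (by
        rintro g hg _ ⟨w, hw, rfl⟩
        refine ⟨⟨_, hU g hg w w.2⟩, ?_, rfl⟩
        rw [SetLike.mem_coe, LinearMap.mem_ker] at hw ⊢
        rw [hpe ⟨g, hg⟩, hw, Matrix.mulVec_zero]) (Submodule.map_subtype_le _ _) with h | h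
      · exact Submodule.map_injective_of_injective U.subtype_injective (by simpa using h)
      · exfalso
        obtain ⟨w, hw, e⟩ := h.ge hu
        obtain rfl : w = ⟨u, hu⟩ := Subtype.ext e
        exact ha hw
    have hran : LinearMap.range p = ⊤ := by
      refine (hirr _ fun m x hx => by
        obtain ⟨w, rfl⟩ := hx
        exact ⟨_, hpe m w⟩).resolve_left fun h => ha ?_
      exact LinearMap.congr_fun (LinearMap.range_eq_bot.mp h) ⟨u, hu⟩
    rw [(LinearEquiv.ofBijective p ⟨LinearMap.ker_eq_bot.mp hker, LinearMap.range_eq_top.mp hran⟩).finrank_eq,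
      Module.finrank_fin_fun]
  -- transport to the conjugate
  let M' := conjBy M h₀
  have hsimple' : ∀ U : Submodule F VV, Inv M' U → U ≠ ⊥ → (∀ U', Inv M' U' → U' ≤ U → U' = ⊥ ∨ U' = U) →
      Module.finrank F U = d := by
    intro U hU hU0 hUs
    let e : VV ≃ₗ[F] VV := Matrix.toLin'OfInv (M := (h₀ : MM)) (M' := ((h₀⁻¹ : GLn) : MM)) (Units.mul_inv h₀)
      (Units.inv_mul h₀)
    have he : ∀ v, e v = ((h₀⁻¹ : GLn) : MM) *ᵥ v := fun v => Matrix.toLin'_apply _ _
    have hfr : Module.finrank F (U.map e.toLinearMap) = Module.finrank F U := e.finrank_map_eq U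
    rw [← hfr]
    refine hsimple _ ?_ (fun h => hU0 (Submodule.map_injective_of_injective e.injective (by simpa using h)))
      fun U' hU' hle => ?_
    · rintro g hg _ ⟨w, hw, rfl⟩
      refine ⟨((h₀ * g * h₀⁻¹ : GLn) : MM) *ᵥ w, hU _ ⟨g, hg, rfl⟩ w hw, ?_⟩
      simp [he, Matrix.mulVec_mulVec, ← mul_assoc]
    · have h' := hUs (U'.comap e.toLinearMap) (fun g hg w hw => ?_) (fun w hw => ?_)
      · rcases h' with h' | h'
        · exact Or.inl (by rw [← Submodule.map_comap_eq_of_surjective e.surjective U', h', Submodule.map_bot])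
        · exact Or.inr (by rw [← Submodule.map_comap_eq_of_surjective e.surjective U', h'])
      · simp only [Submodule.mem_comap, LinearEquiv.coe_coe, he] at hw ⊢
        have := hU' _ ((mem_conjBy h₀ g).mp hg) _ hw
        simpa only [Matrix.mulVec_mulVec, ← Units.val_mul, mul_assoc, mul_inv_cancel, inv_mul_cancel, mul_one, one_mul, inv_mul_cancel_left, mul_inv_cancel_left] using this
      · obtain ⟨w', hw', e'⟩ := hle hw
        exact e.injective e' ▸ hw'
  have hM'inv : ∀ g ∈ M', g ∈ C := fun g hg => hM'C hg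
  obtain ⟨U, ⟨hU, hU0⟩, hUmin⟩ := Set.Finite.exists_minimal
    (Set.toFinite {U : Submodule F (Fin k → F) | Inv M' (U.map L) ∧ U ≠ ⊥})
    ⟨⊤, fun g hg w hw => by
      obtain ⟨u, -, rfl⟩ := hw
      obtain ⟨β, -, hβ⟩ := hcoef g (hM'inv g hg)
      exact ⟨_, trivial, (hβ u).symm⟩, top_ne_bot⟩
  have hLle : ∀ (U₁ : Submodule F (Fin k → F)) (U' : Submodule F VV), U' ≤ U₁.map L → (U'.comap L).map L = U' :=
    fun U₁ U' h => Submodule.map_comap_eq_self (h.trans (LinearMap.map_le_range))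
  choose β hβ hβL using hcoef
  let T : C → Submodule F (Fin k → F) := fun c => U.map (Matrix.toLin' (β c.1 c.2))
  have hTL : ∀ c : C, (T c).map L = (U.map L).map (Matrix.toLin' ((c : GLn) : MM)) := by
    intro c
    rw [← Submodule.map_comp, ← Submodule.map_comp]
    congr 1
    exact LinearMap.ext fun u => by simp [Matrix.toLin'_apply, hβL]
  have hCN : C ≤ N := hsup ▸ le_sup_right
  have hmin' : ∀ c : C, ∀ U' : Submodule F VV, Inv M' U' → U' ≤ (T c).map L → U' = ⊥ ∨ U' = (T c).map L := by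
    intro c U' hU' hle
    by_cases h0 : U' = ⊥
    · exact Or.inl h0
    refine Or.inr (le_antisymm hle ?_)
    set U'' := (U'.comap (Matrix.toLin' ((c : GLn) : MM))).comap L
    have hle' : U'.comap (Matrix.toLin' ((c : GLn) : MM)) ≤ U.map L := by
      intro v hv
      obtain ⟨w, hw, e⟩ := (hTL c ▸ hle) hv
      simp only [Matrix.toLin'_apply] at e
      exact mulVec_injective _ e ▸ hw
    have hmap : U''.map L = U'.comap (Matrix.toLin' ((c : GLn) : MM)) := hLle U _ hle'
    have hU'' : U'' ≤ U := fun u hu => by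
      obtain ⟨u', hu', e⟩ := hle' hu
      exact hLi e ▸ hu'
    have : U ≤ U'' := hUmin ⟨?_, fun h => h0 ?_⟩ hU''
    · rw [hTL]
      rintro _ ⟨v, hv, rfl⟩
      obtain ⟨u, hu, rfl⟩ := hv
      exact this hu
    · rw [hmap]
      intro g hg v hv
      simp only [Submodule.mem_comap, Matrix.toLin'_apply] at hv ⊢
      have := hU' _ (hcn _ (hCN c.2) g hg) _ hv
      simpa only [Matrix.mulVec_mulVec, ← Units.val_mul, mul_assoc, mul_inv_cancel, inv_mul_cancel, mul_one, one_mul, inv_mul_cancel_left, mul_inv_cancel_left] using this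
    · rw [h, Submodule.map_bot] at hmap
      rw [eq_bot_iff]
      intro v hv
      have : ((((c : GLn))⁻¹ : GLn) : MM) *ᵥ v = 0 := by
        rw [← Submodule.mem_bot F, hmap, Submodule.mem_comap, Matrix.toLin'_apply, Matrix.mulVec_mulVec,
          Units.mul_inv, Matrix.one_mulVec]
        exact hv
      have h5 := congrArg (fun z => ((c : GLn) : MM) *ᵥ z) this
      simpa using h5
  have hdk : d ∣ Fintype.card (Fin k) := by
    refine dvd_of_family (fun U₁ => KnownA.PrimeDim.Inv M' (U₁.map L)) T d (by simp [KnownA.PrimeDim.Inv]) ?_ ?_ ?_ ?_ ?_ ?_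
    · intro U₁ U₂ h₁ h₂ g hg w hw
      rw [Submodule.map_sup] at hw ⊢
      obtain ⟨a, ha, b, hb, rfl⟩ := Submodule.mem_sup.mp hw
      rw [Matrix.mulVec_add]
      exact Submodule.add_mem_sup (h₁ g hg a ha) (h₂ g hg b hb)
    · intro U₁ U₂ h₁ h₂
      rw [Submodule.map_inf L hLi]
      exact fun g hg w hw => ⟨h₁ g hg w hw.1, h₂ g hg w hw.2⟩
    · intro c g hg w hw
      rw [hTL] at hw ⊢
      obtain ⟨v, hv, rfl⟩ := hw
      refine ⟨((((c : GLn))⁻¹ * g * (c : GLn) : GLn) : MM) *ᵥ v, hU _ ?_ v hv, ?_⟩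
      · simpa using hcn _ (inv_mem (hCN c.2)) g hg
      · simp [Matrix.toLin'_apply, Matrix.mulVec_mulVec, ← mul_assoc]
    · intro c
      have hfr : ∀ U₁ : Submodule F (Fin k → F), Module.finrank F (U₁.map L) = Module.finrank F U₁ := fun U₁ =>
        (Submodule.equivMapOfInjective L hLi U₁).finrank_eq.symm
      rw [← hfr]
      refine hsimple' _ (fun g hg w hw => ?_) ?_ (hmin' c)
      · rw [hTL] at hw ⊢
        obtain ⟨v, hv, rfl⟩ := hw
        refine ⟨((((c : GLn))⁻¹ * g * (c : GLn) : GLn) : MM) *ᵥ v, hU _ ?_ v hv, ?_⟩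
        · simpa using hcn _ (inv_mem (hCN c.2)) g hg
        · simp [Matrix.toLin'_apply, Matrix.mulVec_mulVec, ← mul_assoc]
      · rw [hTL]
        obtain ⟨u, hu, hu0⟩ := (Submodule.ne_bot_iff U).mp hU0
        intro h
        have h5 : ((c : GLn) : MM) *ᵥ L u = 0 := by
          rw [← Submodule.mem_bot F, ← h]
          exact ⟨_, ⟨u, hu, rfl⟩, Matrix.toLin'_apply _ _⟩
        exact hu0 (hLi ((mulVec_injective _ (h5.trans (Matrix.mulVec_zero _).symm)).trans (map_zero L).symm))
    · intro c U₁ h₁ hle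
      rcases hmin' c _ h₁ (Submodule.map_mono hle) with h | h
      · exact Or.inl (Submodule.map_injective_of_injective hLi (by simpa using h))
      · exact Or.inr (Submodule.map_injective_of_injective hLi h)
    · set U₀ := ⨆ c, T c
      have hU₀ : ∀ c ∈ C, ∀ u ∈ U₀, (c : MM) *ᵥ L u ∈ U₀.map L := by
        intro c hc u hu
        have hle : U₀ ≤ (U₀.map L).comap (Matrix.toLin' (c : MM) ∘ₗ L) := iSup_le fun c' u hu => by
          obtain ⟨v, hv, e⟩ := (hTL c').le ⟨u, hu, rfl⟩
          refine Submodule.map_mono (le_iSup T ⟨c * c', mul_mem hc c'.2⟩) ((hTL _).ge ⟨v, hv, ?_⟩)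
          simp only [Matrix.toLin'_apply] at e ⊢
          rw [LinearMap.comp_apply, Matrix.toLin'_apply, ← e, Matrix.mulVec_mulVec, Units.val_mul]
        exact hle hu
      -- vectors all of whose multiplicity rows lie in U₀
      let P₀ : Submodule F (Fin k → Fin d → F) :=
        ⨅ i, U₀.comap (LinearMap.pi fun j => LinearMap.proj i ∘ₗ LinearMap.proj j)
      have hP₀ : ∀ v, v ∈ P₀ ↔ ∀ i, (fun j => v j i) ∈ U₀ := fun v => by
        simp [P₀, Submodule.mem_iInf]; rfl
      have hI : Inv N (P₀.map Sb) := by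
        refine hinv _ ?_ ?_
        · rintro g hg _ ⟨v, hv, rfl⟩
          refine ⟨_, (hP₀ _).mpr fun i => ?_, (hSm ⟨g, hg⟩ v).symm⟩
          have : (fun j => (A ⟨g, hg⟩ *ᵥ v j) i) = ∑ b, A ⟨g, hg⟩ i b • fun j => v j b := by
            funext j
            simp [Matrix.mulVec, dotProduct, Finset.sum_apply]
          rw [this]
          exact Submodule.sum_mem _ fun b _ => Submodule.smul_mem _ _ ((hP₀ v).mp hv b)
        · rintro g hg _ ⟨v, hv, rfl⟩
          refine ⟨_, (hP₀ _).mpr fun i => ?_, (hβ g hg v).symm⟩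
          obtain ⟨u', hu', e⟩ := hU₀ g hg _ ((hP₀ v).mp hv i)
          rw [hβL g hg] at e
          have : (fun j => (∑ b, β g hg j b • v b) i) = β g hg *ᵥ fun j => v j i := by
            funext j
            simp [Matrix.mulVec, dotProduct, Finset.sum_apply]
          rw [this, ← hLi e]
          exact hu'
      rcases hNirr _ hI with h | h
      · exfalso
        obtain ⟨u, hu, hu0⟩ := (Submodule.ne_bot_iff U).mp hU0
        have hu' : u ∈ U₀ := by
          obtain ⟨w, hw, e⟩ := (hTL (1 : C)).ge ⟨L u, ⟨u, hu, rfl⟩, rfl⟩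
          simp only [Matrix.toLin'_apply, OneMemClass.coe_one, Units.val_one, Matrix.one_mulVec] at e
          exact le_iSup T 1 (hLi e ▸ hw)
        have hLu : L u = 0 := by
          rw [← Submodule.mem_bot F, ← h]
          refine ⟨fun j => u j • x₀, (hP₀ _).mpr fun i => ?_, rfl⟩
          have : (fun j => (u j • x₀) i) = x₀ i • u := by funext j; simp [mul_comm]
          rw [this]
          exact Submodule.smul_mem _ _ hu'
        exact hu0 (hLi (hLu.trans (map_zero L).symm))
      · refine eq_top_iff.mpr fun u _ => ?_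
        obtain ⟨v, hv, e⟩ := (h.ge trivial : L u ∈ P₀.map Sb)
        have := (hP₀ v).mp hv ⟨0, hd⟩
        rw [hbij.1 (e.trans (hL u))] at this
        simpa [x₀] using this
  rwa [Fintype.card_fin] at hdk

/-- The minimal normal subgroup is not a product of several simple factors. -/
theorem eq_of_normal_of_nonscalar {H N : Subgroup GLn} (hsq : Squarefree (Fintype.card ι))
    (hN : NormalisedBy H N) (hmin : ∀ M : Subgroup GLn, M ≤ N → NormalisedBy H M → M ≤ ZZ ∨ M = N)
    (habs : Cfsg.Geo.ActsAbsolutelyIrreducibly (Cfsg.Geo.matrixSet N)) (hperf : ⁅N, N⁆ = N)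
    {M₀ : Subgroup GLn} (hM₀N : M₀ ≤ N) (hM₀ : NormalisedBy N M₀) (hM₀s : ¬ M₀ ≤ ZZ) : M₀ = N := by
  have hn : 0 < Fintype.card ι := Nat.pos_of_ne_zero hsq.ne_zero
  obtain ⟨M, hMM₀, hMn, hMs, hMmin⟩ := exists_minimal hM₀ hM₀s
  suffices M = N from le_antisymm hM₀N (this ▸ hMM₀)
  have hMN : M ≤ N := hMM₀.trans hM₀N
  by_contra hne
  have hMperf := factor_perfect hN hmin hperf hMN hMn hMs hMmin
  obtain ⟨C, h₀, hsup, hcomm, hh₀, hM'C⟩ := exists_factors hN hmin hMN hMn hMs hMperf hMmin hne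
  obtain ⟨d, k, A, φ, hd, hk, hnd, hbij, hirr, hSm, hcoef⟩ := exists_tensor_blocks hn hsup hcomm habs
  have hdk : d ∣ k := dvd_multiplicity hd hk hsup hM'C (normalisedBy_conjBy hN hMn hh₀) habs hbij hirr hSm hcoef
  have hM's : ∃ c ∈ conjBy M h₀, c ∉ ZZ := by
    by_contra hall
    push Not at hall
    refine hMs fun x hx => ?_
    have := (Cfsg.Geo.scalars_normal (ι := ι) (F := F)).conj_mem _ (hall (h₀ * x * h₀⁻¹) ⟨x, hx, rfl⟩) h₀⁻¹
    simpa [mul_assoc] using this
  have hd1 : d ≠ 1 := by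
    intro h1
    refine hMs fun x hx => ?_
    have hsub : Subsingleton (Fin d) := Fin.subsingleton_iff_le_one.mpr h1.le
    let i : Fin d := ⟨0, hd⟩
    refine mem_scalars_of_commute hn habs fun y hy => ?_
    have hle : M ⊔ C ≤ Subgroup.centralizer {x} := by
      refine sup_le (fun z hz => Subgroup.mem_centralizer_singleton_iff.mpr (Units.ext (eq_of_mulVec fun w => ?_)))
        fun z hz => Subgroup.mem_centralizer_singleton_iff.mpr (hcomm z hz x hx)
      obtain ⟨v, rfl⟩ := hbij.2 w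
      have ex : ∀ v, (x : MM) *ᵥ assemble φ v = _ := hSm ⟨x, hx⟩
      have ez : ∀ v, (z : MM) *ᵥ assemble φ v = _ := hSm ⟨z, hz⟩
      rw [Units.val_mul, Units.val_mul, ← Matrix.mulVec_mulVec, ← Matrix.mulVec_mulVec]
      simp only [ex, ez]
      congr 1
      funext j
      rw [Matrix.mulVec_mulVec, Matrix.mulVec_mulVec]
      congr 1
      ext a b
      rw [Matrix.mul_apply, Matrix.mul_apply, Fintype.sum_subsingleton _ i, Fintype.sum_subsingleton _ i,
        Subsingleton.elim a i, Subsingleton.elim b i, mul_comm]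
    exact (Subgroup.mem_centralizer_singleton_iff.mp (hle (hsup.ge hy))).symm
  have hk1 : k ≠ 1 := by
    intro h1
    obtain ⟨c, hc, hcs⟩ := hM's
    obtain ⟨β, hβ⟩ := hcoef c (hM'C hc)
    have hsub : Subsingleton (Fin k) := Fin.subsingleton_iff_le_one.mpr h1.le
    refine hcs (mem_scalars_of_matrix hn (c := β ⟨0, hk⟩ ⟨0, hk⟩) (eq_smul_one fun w => ?_))
    obtain ⟨v, rfl⟩ := hbij.2 w
    rw [hβ, ← map_smul]
    congr 1
    funext a
    rw [Fintype.sum_subsingleton _ a, Subsingleton.elim a ⟨0, hk⟩]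
    rfl
  refine hd1 (Nat.isUnit_iff.mp (hsq d ?_))
  rw [← hnd]
  exact Nat.mul_dvd_mul_left d hdk

theorem normalisedBy_map_subtype {N : Subgroup GLn} {L : Subgroup N} (hL : L.Normal) :
    NormalisedBy N (L.map N.subtype) := by
  intro g hg x hx
  obtain ⟨y, hy, rfl⟩ := Subgroup.mem_map.mp hx
  refine Subgroup.mem_map.mpr ⟨_, hL.conj_mem y hy ⟨g, hg⟩, ?_⟩
  simp

/-- A minimal absolutely irreducible normal subgroup is a core. -/
theorem coreData {H N : Subgroup GLn} (hsq : Squarefree (Fintype.card ι)) (hpp : ¬ IsPrimePow (Fintype.card ι))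
    (hn : 2 ≤ Fintype.card ι) (hNH : N ≤ H) (hN : NormalisedBy H N) (hns : ¬ N ≤ ZZ)
    (hmin : ∀ M : Subgroup GLn, M ≤ N → NormalisedBy H M → M ≤ ZZ ∨ M = N)
    (habs : Cfsg.Geo.ActsAbsolutelyIrreducibly (Cfsg.Geo.matrixSet N)) :
    Cfsg.Agent.Lib.KnownA.PrimeDim.Core H N := by
  have hperf : ⁅N, N⁆ = N := by
    refine (hmin _ (Subgroup.commutator_le.mpr fun a ha b hb => ?_) (normalisedBy_commutator hN)).resolve_left
      fun hle => hpp (isPrimePow_of_class_two hN hns hmin habs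
        (fun a ha b hb => hle (Subgroup.commutator_mem_commutator ha hb)) hn)
    rw [commutatorElement_def]
    exact mul_mem (mul_mem (mul_mem ha hb) (inv_mem ha)) (inv_mem hb)
  have hnt : ∃ x : N, (x : GLn) ∉ ZZ := by
    by_contra h
    push Not at h
    exact hns fun x hx => h ⟨x, hx⟩
  haveI : Nontrivial (N ⧸ (ZZ).subgroupOf N) := by
    obtain ⟨x, hx⟩ := hnt
    exact ⟨⟨(x : N ⧸ (ZZ).subgroupOf N), 1, fun h => hx ((QuotientGroup.eq_one_iff x).mp h)⟩⟩
  refine ⟨hNH, hN, hperf, ⟨fun K hK => ?_⟩, fun hc => ?_, fun h _ hh => ?_, habs⟩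
  · set q := QuotientGroup.mk' ((ZZ).subgroupOf N)
    set M₀ := (K.comap q).map N.subtype
    by_cases h : M₀ ≤ ZZ
    · left
      rw [← Subgroup.map_comap_eq_self_of_surjective (QuotientGroup.mk'_surjective _) K, Subgroup.map_eq_bot_iff,
        QuotientGroup.ker_mk']
      exact fun x hx => Subgroup.mem_subgroupOf.mpr (h ⟨x, hx, rfl⟩)
    · right
      have hnorm : NormalisedBy N M₀ := normalisedBy_map_subtype (hK.comap q)
      have hM₀ : M₀ = N := eq_of_normal_of_nonscalar hsq hN hmin habs hperf (Subgroup.map_subtype_le _) hnorm h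
      refine eq_top_iff.mpr fun z _ => ?_
      obtain ⟨x, rfl⟩ := QuotientGroup.mk'_surjective _ z
      obtain ⟨y, hy, e⟩ := Subgroup.mem_map.mp (hM₀.ge x.2)
      obtain rfl : y = x := Subtype.ext e
      exact Subgroup.mem_comap.mp hy
  · refine hns (hperf.ge.trans (Subgroup.commutator_le.mpr fun a ha b hb => ?_))
    have := hc.is_comm.comm ((⟨a, ha⟩ : N) : N ⧸ (ZZ).subgroupOf N) ((⟨b, hb⟩ : N))
    rw [← commutatorElement_eq_one_iff_mul_comm] at this
    exact Subgroup.mem_subgroupOf.mp ((QuotientGroup.eq_one_iff (⁅(⟨a, ha⟩ : N), (⟨b, hb⟩ : N)⁆)).mp this)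
  · exact mem_scalars_of_commute (by omega) habs (commute_of_perfect hperf hh)

/-- The residual conditions on a minimal absolutely irreducible normal subgroup. -/
theorem core {H N : Subgroup GLn} (hsq : Squarefree (Fintype.card ι)) (hpp : ¬ IsPrimePow (Fintype.card ι))
    (hn : 2 ≤ Fintype.card ι) (hNH : N ≤ H) (hN : NormalisedBy H N) (hns : ¬ N ≤ ZZ)
    (hmin : ∀ M : Subgroup GLn, M ≤ N → NormalisedBy H M → M ≤ ZZ ∨ M = N)
    (habs : Cfsg.Geo.ActsAbsolutelyIrreducibly (Cfsg.Geo.matrixSet N))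
    (hsub : ∀ F₀ : Subfield F, F₀ ≠ ⊤ → ¬ Cfsg.Geo.RealisableOver F₀ (Cfsg.Geo.matrixSet N)) :
    Cfsg.Geo.IsResidualCore H N :=
  (coreData hsq hpp hn hNH hN hns hmin habs).residual hsub

end Density

end Cfsg.Agent.Lib.TwoPrimeDim
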