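import Cfsg.Agent.Lib.TwoPrimeDim.Centre

/-!
A normal subgroup of an irreducible group whose commutant has trivial centre acts as copies of one irreducible module
with scalar endomorphisms.
-/

set_option autoImplicit false
set_option linter.unusedSectionVars false

namespace Cfsg.Agent.Lib.TwoPrimeDim

open Matrix Module
open scoped MatrixGroups Matrix

variable {ι : Type} [Fintype ι] [DecidableEq ι] {F : Type*} [Field F] [Finite F]

local notation "GG" => Matrix.GeneralLinearGroup ι F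
local notation "MM" => Matrix ι ι F
local notation "VV" => (ι → F)

variable {N G : Subgroup (Matrix.GeneralLinearGroup ι F)}

/-- A non-zero invariant subspace without proper non-zero invariant subspaces. -/
def Simp (N : Subgroup GG) (U : Submodule F VV) : Prop :=
  Inv N U ∧ U ≠ ⊥ ∧ ∀ W : Submodule F VV, Inv N W → W ≤ U → W = ⊥ ∨ W = U

theorem exists_simp {W : Submodule F VV} (hW : Inv N W) (h0 : W ≠ ⊥) : ∃ U, Simp N U ∧ U ≤ W := by
  obtain ⟨U, ⟨hU, hU0, hUW⟩, hmin⟩ := Set.Finite.exists_minimal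
    (Set.toFinite {U : Submodule F VV | Inv N U ∧ U ≠ ⊥ ∧ U ≤ W}) ⟨W, hW, h0, le_rfl⟩
  refine ⟨U, ⟨hU, hU0, fun X hX hle => ?_⟩, hUW⟩
  by_cases hX0 : X = ⊥
  · exact Or.inl hX0
  · exact Or.inr (le_antisymm hle (hmin ⟨hX, hX0, hle.trans hUW⟩ hle))

theorem inv_sup {U W : Submodule F VV} (hU : Inv N U) (hW : Inv N W) : Inv N (U ⊔ W) := by
  intro g hg x hx
  obtain ⟨a, ha, b, hb, rfl⟩ := Submodule.mem_sup.mp hx
  rw [Matrix.mulVec_add]
  exact Submodule.add_mem_sup (hU g hg a ha) (hW g hg b hb)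

theorem inv_inf {U W : Submodule F VV} (hU : Inv N U) (hW : Inv N W) : Inv N (U ⊓ W) :=
  fun g hg x hx => ⟨hU g hg x hx.1, hW g hg x hx.2⟩

theorem span_simp (hG : Cfsg.Geo.ActsIrreducibly (Cfsg.Geo.matrixSet G))
    (hNG : ∀ g ∈ G, ∀ x ∈ N, g * x * g⁻¹ ∈ N) (h : ∃ U, Simp N U) :
    ⨆ U : {U : Submodule F VV // Simp N U}, (U : Submodule F VV) = ⊤ := by
  obtain ⟨U0, hU0⟩ := h
  refine ((actsIrreducibly_iff G).mp hG _ ?_).resolve_left fun hb => hU0.2.1 ?_
  · intro g hg v hv
    have hinj : Function.Injective (Matrix.toLin' (g : MM)) := by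
      intro a b hab
      simp only [Matrix.toLin'_apply] at hab
      exact Matrix.mulVec_injective_iff_isUnit.mpr g.isUnit hab
    have hle : (⨆ U : {U : Submodule F VV // Simp N U}, (U : Submodule F VV)).map (Matrix.toLin' (g : MM)) ≤
        ⨆ U : {U : Submodule F VV // Simp N U}, (U : Submodule F VV) := by
      rw [Submodule.map_iSup, iSup_le_iff]
      rintro ⟨U, hU, hne, hmin⟩
      refine le_iSup_of_le (⟨U.map (Matrix.toLin' (g : MM)), ?_, ?_, ?_⟩ : {U : Submodule F VV // Simp N U}) le_rfl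
      · rintro x hx _ ⟨u, hu, rfl⟩
        refine ⟨((g⁻¹ * x * g : GG) : MM) *ᵥ u, hU _ ?_ u hu, ?_⟩
        · simpa using hNG g⁻¹ (G.inv_mem hg) x hx
        · simp [Matrix.toLin'_apply, Matrix.mulVec_mulVec, mul_assoc]
      · exact fun h => hne (Submodule.map_injective_of_injective hinj (h.trans (Submodule.map_bot _).symm))
      · intro W hW hle
        have hpre : Inv N (W.comap (Matrix.toLin' (g : MM))) := by
          intro x hx u hu
          simp only [Submodule.mem_comap, Matrix.toLin'_apply] at hu ⊢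
          have := hW _ (hNG g hg x hx) _ hu
          rw [Matrix.mulVec_mulVec, ← Units.val_mul, inv_mul_cancel_right, Units.val_mul] at this
          rwa [Matrix.mulVec_mulVec]
        have hple : W.comap (Matrix.toLin' (g : MM)) ≤ U := by
          intro u hu
          obtain ⟨u', hu', huu⟩ := hle hu
          exact hinj huu ▸ hu'
        have hWeq : (W.comap (Matrix.toLin' (g : MM))).map (Matrix.toLin' (g : MM)) = W :=
          Submodule.map_comap_eq_self (hle.trans LinearMap.map_le_range)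
        rcases hmin _ hpre hple with h | h
        · left; rw [← hWeq, h, Submodule.map_bot]
        · right; rw [← hWeq, h]
    exact hle ⟨v, hv, by rw [Matrix.toLin'_apply]⟩
  · exact le_bot_iff.mp (hb ▸ le_iSup (fun U : {U : Submodule F VV // Simp N U} => (U : Submodule F VV)) ⟨U0, hU0⟩)

theorem exists_compl (hspan : ⨆ U : {U : Submodule F VV // Simp N U}, (U : Submodule F VV) = ⊤)
    {W : Submodule F VV} (hW : Inv N W) : ∃ K, Inv N K ∧ IsCompl W K := by
  obtain ⟨K, ⟨hK, hKW⟩, hmax⟩ := Set.Finite.exists_maximal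
    (Set.toFinite {K : Submodule F VV | Inv N K ∧ Disjoint W K})
    ⟨⊥, fun g _ x hx => by simp [(Submodule.mem_bot F).mp hx], disjoint_bot_right⟩
  refine ⟨K, hK, hKW, ?_⟩
  rw [codisjoint_iff, ← top_le_iff, ← hspan, iSup_le_iff]
  rintro ⟨U, hU, hne, hmin⟩
  rcases hmin _ (inv_inf hU (inv_sup hW hK)) inf_le_left with h | h
  · have hd : Disjoint W (K ⊔ U) :=
      hKW.disjoint_sup_right_of_disjoint_sup_left (disjoint_iff.mpr (by rwa [inf_comm]))
    exact absurd (le_bot_iff.mp (h ▸ le_inf le_rfl ((le_sup_right.trans (hmax ⟨inv_sup hK hU, hd⟩ le_sup_left)).trans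
      le_sup_right))) hne
  · exact inf_eq_left.mp h

/-- A normal subgroup with trivial centre of the commutant is homogeneous. -/
theorem homogeneous [Nonempty ι] (hG : Cfsg.Geo.ActsIrreducibly (Cfsg.Geo.matrixSet G))
    (hNG : ∀ g ∈ G, ∀ x ∈ N, g * x * g⁻¹ ∈ N) (hc : ∀ M ∈ centre N, ∃ c : F, M = c • (1 : MM)) :
    ∃ (d k : ℕ) (A : N → Matrix (Fin d) (Fin d) F) (φ : Fin k → (Fin d → F) →ₗ[F] VV),
      d * k = Fintype.card ι ∧ 0 < d ∧ 0 < k ∧
      (∀ U : Submodule F (Fin d → F), (∀ n, ∀ u ∈ U, A n *ᵥ u ∈ U) → U = ⊥ ∨ U = ⊤) ∧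
      (∀ X : Matrix (Fin d) (Fin d) F, (∀ n, X * A n = A n * X) → ∃ c : F, X = c • 1) ∧
      (∀ j (n : N) x, ((n : GG) : MM) *ᵥ φ j x = φ j (A n *ᵥ x)) ∧
      Function.Bijective (Cfsg.Agent.Lib.MaxTensor.assemble φ) := by
  classical
  obtain ⟨W, hW, -⟩ := exists_simp (N := N) (W := ⊤) (fun _ _ _ _ => trivial) top_ne_bot
  have hspan := span_simp hG hNG ⟨W, hW⟩
  set d := finrank F W with hd
  let b : W ≃ₗ[F] (Fin d → F) := (Module.finBasis F W).equivFun
  let ψ : (Fin d → F) →ₗ[F] VV := W.subtype ∘ₗ b.symm.toLinearMap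
  have hψinj : Function.Injective ψ := Subtype.val_injective.comp b.symm.injective
  have hres : ∀ n : N, ∀ w ∈ W, Matrix.toLin' ((n : GG) : MM) w ∈ W := fun n w hw => by
    rw [Matrix.toLin'_apply]; exact hW.1 n n.2 w hw
  let A : N → Matrix (Fin d) (Fin d) F := fun n =>
    LinearMap.toMatrix' (b.toLinearMap ∘ₗ (Matrix.toLin' ((n : GG) : MM)).restrict (hres n) ∘ₗ b.symm.toLinearMap)
  have hA : ∀ (n : N) x, ((n : GG) : MM) *ᵥ ψ x = ψ (A n *ᵥ x) := by
    intro n x
    rw [← Matrix.toLin'_apply (A n) x, Matrix.toLin'_toMatrix']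
    simp [ψ]
  let Eqv : ((Fin d → F) →ₗ[F] VV) → Prop := fun φ => ∀ (n : N) x, ((n : GG) : MM) *ᵥ φ x = φ (A n *ᵥ x)
  have hirr : ∀ U : Submodule F (Fin d → F), (∀ n, ∀ u ∈ U, A n *ᵥ u ∈ U) → U = ⊥ ∨ U = ⊤ := by
    intro U hU
    have hinv : Inv N (U.map ψ) := by
      rintro g hg _ ⟨u, hu, rfl⟩
      exact ⟨A ⟨g, hg⟩ *ᵥ u, hU _ u hu, (hA ⟨g, hg⟩ u).symm⟩
    have hle : U.map ψ ≤ W := by rintro _ ⟨u, -, rfl⟩; exact (b.symm u).2
    rcases hW.2.2 _ hinv hle with h | h
    · exact Or.inl (Submodule.map_injective_of_injective hψinj (by rw [h, Submodule.map_bot]))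
    · refine Or.inr (Submodule.eq_top_iff'.mpr fun x => ?_)
      have : ψ x ∈ U.map ψ := h.symm ▸ (b.symm x).2
      obtain ⟨u, hu, hux⟩ := this
      exact hψinj hux ▸ hu
  -- the sum of the copies of `A` and the sum of the other simple subspaces
  let S : Submodule F VV := ⨆ φ : {φ // Eqv φ}, LinearMap.range (φ : (Fin d → F) →ₗ[F] VV)
  let Other : Submodule F VV → Prop := fun U => Simp N U ∧ ∀ φ, Eqv φ → LinearMap.range φ ≤ U → φ = 0
  let T : Submodule F VV := ⨆ U : {U // Other U}, (U : Submodule F VV)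
  have hSinv : Inv N S := by
    intro g hg v hv
    have : S.map (Matrix.toLin' (g : MM)) ≤ S := by
      rw [Submodule.map_iSup, iSup_le_iff]
      rintro ⟨φ, hφ⟩
      refine le_iSup_of_le ⟨φ, hφ⟩ ?_
      rintro _ ⟨_, ⟨x, rfl⟩, rfl⟩
      exact ⟨A ⟨g, hg⟩ *ᵥ x, by rw [Matrix.toLin'_apply]; exact (hφ ⟨g, hg⟩ x).symm⟩
    exact this ⟨v, hv, by rw [Matrix.toLin'_apply]⟩
  have hTinv : Inv N T := by
    intro g hg v hv
    have : T.map (Matrix.toLin' (g : MM)) ≤ T := by
      rw [Submodule.map_iSup, iSup_le_iff]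
      rintro ⟨U, hU⟩
      refine le_iSup_of_le ⟨U, hU⟩ ?_
      rintro _ ⟨u, hu, rfl⟩
      rw [Matrix.toLin'_apply]
      exact hU.1.1 g hg u hu
    exact this ⟨v, hv, by rw [Matrix.toLin'_apply]⟩
  -- pull an equivariant map back along an equivariant linear map
  have hpull : ∀ (L : VV →ₗ[F] VV) (U : Submodule F VV),
      (∀ g ∈ N, ∀ v, L ((g : MM) *ᵥ v) = (g : MM) *ᵥ L v) → Other U →
      ∀ φ, Eqv φ → LinearMap.range φ ≤ U.map L → φ = 0 := by
    intro L U hL hU φ hφ hle
    rcases hU.1.2.2 (U ⊓ LinearMap.ker L) (inv_inf hU.1.1 fun g hg v hv => by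
        rw [LinearMap.mem_ker] at hv ⊢; rw [hL g hg, hv, Matrix.mulVec_zero]) inf_le_left with h | h
    · have hinjL : ∀ u ∈ U, L u = 0 → u = 0 := fun u hu h0 => by
        have : u ∈ U ⊓ LinearMap.ker L := ⟨hu, h0⟩
        rwa [h, Submodule.mem_bot] at this
      have hex : ∀ x, ∃ u ∈ U, L u = φ x := fun x => hle ⟨x, rfl⟩
      choose s hs hs' using hex
      have huniq : ∀ x u, u ∈ U → L u = φ x → s x = u := fun x u hu he =>
        sub_eq_zero.mp (hinjL _ (U.sub_mem (hs x) hu) (by rw [map_sub, hs', he, sub_self]))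
      let φ' : (Fin d → F) →ₗ[F] VV :=
        { toFun := s
          map_add' := fun x y => huniq _ _ (U.add_mem (hs x) (hs y)) (by rw [map_add, map_add, hs', hs'])
          map_smul' := fun c x => huniq _ _ (U.smul_mem c (hs x)) (by rw [map_smul, map_smul, hs']; rfl) }
      have h0 := hU.2 φ' (fun n x => (huniq _ _ (hU.1.1 n n.2 _ (hs x))
        (by rw [hL n n.2]; show _ *ᵥ L (s x) = _; rw [hs', hφ])).symm) (by rintro _ ⟨x, rfl⟩; exact hs x)
      refine LinearMap.ext fun x => ?_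
      rw [LinearMap.zero_apply, ← hs' x, show s x = 0 from LinearMap.congr_fun h0 x, map_zero]
    · refine LinearMap.ext fun x => ?_
      obtain ⟨u, hu, hux⟩ := hle ⟨x, rfl⟩
      rw [LinearMap.zero_apply, ← hux]
      exact LinearMap.mem_ker.mp ((inf_eq_left.mp h) hu)
  have hsup : S ⊔ T = ⊤ := by
    rw [← top_le_iff, ← hspan, iSup_le_iff]
    rintro ⟨U, hU⟩
    by_cases hO : Other U
    · exact (le_iSup (fun U : {U // Other U} => (U : Submodule F VV)) ⟨U, hO⟩).trans le_sup_right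
    · obtain ⟨φ, hφ, hle, hne⟩ : ∃ φ, Eqv φ ∧ LinearMap.range φ ≤ U ∧ φ ≠ 0 := by
        by_contra hcon
        push Not at hcon
        exact hO ⟨hU, hcon⟩
      have hinv : Inv N (LinearMap.range φ) := by
        rintro g hg _ ⟨x, rfl⟩
        exact ⟨A ⟨g, hg⟩ *ᵥ x, (hφ ⟨g, hg⟩ x).symm⟩
      rcases hU.2.2 _ hinv hle with h | h
      · exact absurd (LinearMap.range_eq_bot.mp h) hne
      · exact h ▸ (le_iSup (fun φ : {φ // Eqv φ} => LinearMap.range (φ : (Fin d → F) →ₗ[F] VV)) ⟨φ, hφ⟩).trans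
          le_sup_left
  have hproj : ∀ {X Y : Submodule F VV} (hXY : IsCompl X Y), Inv N X → Inv N Y →
      ∀ g ∈ N, ∀ v, (X.projection Y hXY) ((g : MM) *ᵥ v) = (g : MM) *ᵥ (X.projection Y hXY) v := by
    intro X Y hXY hX hY g hg v
    obtain ⟨x, hx, y, hy, rfl⟩ := Submodule.mem_sup.mp (hXY.sup_eq_top.ge (Submodule.mem_top : v ∈ ⊤))
    rw [Matrix.mulVec_add, map_add, map_add, Submodule.projection_apply_left hXY ⟨_, hX g hg x hx⟩,
      Submodule.projection_apply_of_mem_right hXY (hY g hg y hy), Submodule.projection_apply_left hXY ⟨x, hx⟩,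
      Submodule.projection_apply_of_mem_right hXY hy, add_zero, add_zero]
  have hdisj : S ⊓ T = ⊥ := by
    by_contra hne
    obtain ⟨U, hU, hUle⟩ := exists_simp (inv_inf hSinv hTinv) hne
    obtain ⟨K, hK, hUK⟩ := exists_compl hspan hU.1
    set p := U.projection K hUK
    have hp := hproj hUK hU.1 hK
    have hfix : ∀ u ∈ U, p u = u := fun u hu => Submodule.projection_apply_left hUK ⟨u, hu⟩
    obtain ⟨φ, hφ, hne'⟩ : ∃ φ, Eqv φ ∧ p ∘ₗ φ ≠ 0 := by
      by_contra hcon
      push Not at hcon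
      refine hU.2.1 ((Submodule.eq_bot_iff _).mpr fun u hu => ?_)
      have hle : S ≤ LinearMap.ker p := by
        refine iSup_le fun φ => ?_
        rintro _ ⟨x, rfl⟩
        exact LinearMap.congr_fun (hcon _ φ.2) x
      rw [← hfix u hu]
      exact hle (hUle hu).1
    obtain ⟨U', hU', hne''⟩ : ∃ U', Other U' ∧ U'.map p ≠ ⊥ := by
      by_contra hcon
      push Not at hcon
      refine hU.2.1 ((Submodule.eq_bot_iff _).mpr fun u hu => ?_)
      have hle : T ≤ LinearMap.ker p := by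
        refine iSup_le fun U' v hv => ?_
        have : p v ∈ (U' : Submodule F VV).map p := ⟨v, hv, rfl⟩
        rwa [hcon _ U'.2, Submodule.mem_bot] at this
      rw [← hfix u hu]
      exact hle (hUle hu).2
    have himg : U'.map p = U := by
      refine (hU.2.2 _ ?_ ?_).resolve_left hne''
      · rintro g hg _ ⟨v, hv, rfl⟩
        exact ⟨(g : MM) *ᵥ v, hU'.1.1 g hg v hv, hp g hg v⟩
      · rintro _ ⟨v, -, rfl⟩
        exact Submodule.projection_apply_mem hUK v
    refine hne' (hpull p U' hp hU' (p ∘ₗ φ) (fun n x => ?_) ?_)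
    · simp only [LinearMap.comp_apply]
      rw [← hp n n.2, hφ]
    · rintro _ ⟨x, rfl⟩
      rw [himg]
      exact Submodule.projection_apply_mem hUK _
  have hST : IsCompl S T := ⟨disjoint_iff.mpr hdisj, codisjoint_iff.mpr hsup⟩
  set π := S.projection T hST
  let e : MM := LinearMap.toMatrix' π
  have he : ∀ v, e *ᵥ v = π v := fun v => by rw [← Matrix.toLin'_apply, Matrix.toLin'_toMatrix']
  have hecentre : e ∈ centre N := by
    rw [mem_centre]
    refine ⟨fun g hg => eq_of_mulVec fun v => ?_, fun X hX => eq_of_mulVec fun v => ?_⟩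
    · rw [← Matrix.mulVec_mulVec, ← Matrix.mulVec_mulVec, he, he, hproj hST hSinv hTinv g hg]
    have hXS : ∀ s ∈ S, X *ᵥ s ∈ S := by
      have : S.map (Matrix.toLin' X) ≤ S := by
        rw [Submodule.map_iSup, iSup_le_iff]
        rintro ⟨φ, hφ⟩
        refine le_iSup_of_le (⟨Matrix.toLin' X ∘ₗ φ, fun n x => ?_⟩ : {φ // Eqv φ}) ?_
        · simp only [LinearMap.comp_apply, Matrix.toLin'_apply]
          rw [Matrix.mulVec_mulVec, hX n n.2, ← Matrix.mulVec_mulVec, hφ]
        · rintro _ ⟨_, ⟨x, rfl⟩, rfl⟩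
          exact ⟨x, rfl⟩
      exact fun s hs => this ⟨s, hs, by rw [Matrix.toLin'_apply]⟩
    have hXT : ∀ s ∈ T, X *ᵥ s ∈ T := by
      have : T.map (Matrix.toLin' X) ≤ T := by
        rw [Submodule.map_iSup, iSup_le_iff]
        rintro ⟨U, hU⟩
        have hL : ∀ g ∈ N, ∀ v, Matrix.toLin' X ((g : MM) *ᵥ v) = (g : MM) *ᵥ Matrix.toLin' X v := fun g hg v => by
          simp only [Matrix.toLin'_apply, Matrix.mulVec_mulVec, hX g hg]
        by_cases h0 : U.map (Matrix.toLin' X) = ⊥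
        · show U.map (Matrix.toLin' X) ≤ T
          rw [h0]; exact bot_le
        refine le_iSup_of_le (⟨U.map (Matrix.toLin' X), ⟨?_, h0, fun W' hW' hle => ?_⟩,
          fun φ hφ hle => hpull _ U hL hU φ hφ hle⟩ : {U // Other U}) le_rfl
        · rintro g hg _ ⟨u, hu, rfl⟩
          exact ⟨(g : MM) *ᵥ u, hU.1.1 g hg u hu, hL g hg u⟩
        · rcases hU.1.2.2 (U ⊓ W'.comap (Matrix.toLin' X)) (inv_inf hU.1.1 fun g hg v hv => by
              rw [Submodule.mem_comap] at hv ⊢; rw [hL g hg]; exact hW' g hg _ hv) inf_le_left with h | h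
          · left
            rw [Submodule.eq_bot_iff]
            intro w hw
            obtain ⟨u, hu, rfl⟩ := hle hw
            have : u ∈ U ⊓ W'.comap (Matrix.toLin' X) := ⟨hu, hw⟩
            rw [h, Submodule.mem_bot] at this
            rw [this, map_zero]
          · refine Or.inr (le_antisymm hle ?_)
            rintro _ ⟨u, hu, rfl⟩
            exact (inf_eq_left.mp h) hu
      exact fun s hs => this ⟨s, hs, by rw [Matrix.toLin'_apply]⟩
    obtain ⟨x, hx, y, hy, rfl⟩ := Submodule.mem_sup.mp (hsup.ge (Submodule.mem_top : v ∈ ⊤))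
    simp only [← Matrix.mulVec_mulVec, Matrix.mulVec_add, he, π]
    rw [Submodule.projection_apply_left hST ⟨x, hx⟩, Submodule.projection_apply_of_mem_right hST hy,
      Submodule.projection_apply_left hST ⟨_, hXS x hx⟩, Submodule.projection_apply_of_mem_right hST (hXT y hy),
      Matrix.mulVec_zero]
  have hStop : S = ⊤ := by
    obtain ⟨c, hce⟩ := hc e hecentre
    obtain ⟨w, hw, hw0⟩ := (Submodule.ne_bot_iff W).mp hW.2.1
    have hwS : w ∈ S := le_iSup (fun φ : {φ // Eqv φ} => LinearMap.range (φ : (Fin d → F) →ₗ[F] VV)) ⟨ψ, hA⟩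
      ⟨b ⟨w, hw⟩, by simp [ψ]⟩
    have h1 : e *ᵥ w = w := by rw [he]; exact Submodule.projection_apply_left hST ⟨w, hwS⟩
    have hc1 : c = 1 := by
      rw [hce, Matrix.smul_mulVec, Matrix.one_mulVec] at h1
      by_contra hne
      exact hw0 ((smul_eq_zero.mp (show (c - 1) • w = 0 by rw [sub_smul, one_smul, h1, sub_self])).resolve_left
        (sub_ne_zero.mpr hne))
    rw [eq_top_iff]
    intro v _
    have := he v
    rw [hce, hc1, one_smul, Matrix.one_mulVec] at this
    rw [this]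
    exact Submodule.projection_apply_mem hST v
  obtain ⟨k, φ, hφ, hbij⟩ := Cfsg.Agent.Lib.MaxTensor.exists_blocks A hirr fun U hU => by
    rw [← top_le_iff, ← hStop, iSup_le_iff]
    rintro ⟨φ, hφ⟩ _ ⟨x, rfl⟩
    exact hU φ hφ x
  let Φ := LinearEquiv.ofBijective (Cfsg.Agent.Lib.MaxTensor.assemble φ) hbij
  have hdk : d * k = Fintype.card ι := by
    have := Φ.finrank_eq
    simp only [Module.finrank_pi_fintype, Module.finrank_self, Finset.sum_const, Finset.card_univ,
      Fintype.card_fin, smul_eq_mul, mul_one] at this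
    rw [mul_comm]; exact this
  have hd0 : 0 < d := Nat.pos_of_ne_zero fun h => hW.2.1 (Submodule.finrank_eq_zero.mp h)
  have hk0 : 0 < k := by
    rcases Nat.eq_zero_or_pos k with h | h
    · have hcard := Fintype.card_pos (α := ι)
      rw [← hdk, h, mul_zero] at hcard
      exact absurd hcard (lt_irrefl 0)
    · exact h
  refine ⟨d, k, A, φ, hdk, hd0, hk0, hirr, ?_, hφ, hbij⟩
  -- endomorphisms of `A` are scalar
  intro X hX
  haveI : Nonempty (Fin d) := ⟨⟨0, hd0⟩⟩
  set D := Subalgebra.centralizer F (Set.range A)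
  have hD : ∀ Y : Matrix (Fin d) (Fin d) F, (∀ n, Y * A n = A n * Y) → Y ∈ D := fun Y hY => by
    rw [Subalgebra.mem_centralizer_iff]
    rintro _ ⟨n, rfl⟩
    exact (hY n).symm
  haveI : Finite D := Finite.of_injective (fun x : D => (x : Matrix (Fin d) (Fin d) F)) Subtype.val_injective
  haveI : Nontrivial D := ⟨⟨0, 1, fun h => zero_ne_one (congrArg Subtype.val h)⟩⟩
  have hDunit : ∀ Y : D, Y ≠ 0 → Function.Injective fun v => (Y : Matrix (Fin d) (Fin d) F) *ᵥ v := by
    intro Y hY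
    rcases hirr (LinearMap.ker (Matrix.toLin' (Y : Matrix (Fin d) (Fin d) F))) (fun n u hu => by
        rw [LinearMap.mem_ker, Matrix.toLin'_apply] at hu ⊢
        rw [Matrix.mulVec_mulVec, ← (Subalgebra.mem_centralizer_iff F).mp Y.2 _ ⟨n, rfl⟩, ← Matrix.mulVec_mulVec, hu,
          Matrix.mulVec_zero]) with h | h
    · intro a b hab
      exact LinearMap.ker_eq_bot.mp h (by simpa [Matrix.toLin'_apply] using hab)
    · exact absurd (Subtype.ext (Matrix.toLin'.injective (by rw [LinearMap.ker_eq_top.mp h]; exact (map_zero _).symm))) hY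
  haveI : NoZeroDivisors D := ⟨fun {a c} hac => by
    by_cases ha : a = 0
    · exact Or.inl ha
    · refine Or.inr (Subtype.ext (Matrix.ext_of_mulVec_single fun i => hDunit a ha ?_))
      have hac' := congrArg Subtype.val hac
      simp only [MulMemClass.coe_mul, ZeroMemClass.coe_zero] at hac'
      simp only [ZeroMemClass.coe_zero, Matrix.zero_mulVec, Matrix.mulVec_zero, Matrix.mulVec_mulVec, hac']⟩
  haveI : IsDomain D := NoZeroDivisors.to_isDomain D
  have hcomm := (Finite.isDomain_to_isField D).mul_comm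
  let blk : VV →ₗ[F] VV := Φ.toLinearMap ∘ₗ
    (LinearMap.pi fun j => Matrix.toLin' X ∘ₗ LinearMap.proj j) ∘ₗ Φ.symm.toLinearMap
  have hblk : ∀ j x, blk (φ j x) = φ j (X *ᵥ x) := by
    intro j x
    have hsingle : ∀ y, Φ (Pi.single j y) = φ j y := fun y => by
      show Cfsg.Agent.Lib.MaxTensor.assemble φ (Pi.single j y) = _
      simp only [Cfsg.Agent.Lib.MaxTensor.assemble, LinearMap.coe_mk, AddHom.coe_mk]
      rw [Finset.sum_eq_single j (fun l _ hl => by rw [Pi.single_eq_of_ne hl, map_zero])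
        (fun h => absurd (Finset.mem_univ j) h), Pi.single_eq_same]
    conv_lhs => rw [← hsingle x]
    show Φ (fun l => (Matrix.toLin' X) (Φ.symm (Φ (Pi.single j x)) l)) = _
    rw [← hsingle, Φ.symm_apply_apply]
    congr 1
    funext l
    rcases eq_or_ne l j with rfl | hl
    · simp [Matrix.toLin'_apply]
    · simp [Pi.single_eq_of_ne hl]
  have hext : ∀ (L L' : VV →ₗ[F] VV), (∀ j x, L (φ j x) = L' (φ j x)) → L = L' := by
    intro L L' h
    refine LinearMap.ext fun v => ?_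
    obtain ⟨u, rfl⟩ := hbij.2 v
    simp [Cfsg.Agent.Lib.MaxTensor.assemble, h]
  have hM : LinearMap.toMatrix' blk ∈ centre N := by
    rw [mem_centre]
    have key : ∀ Y : MM, (∀ j x, Y *ᵥ blk (φ j x) = blk (Y *ᵥ φ j x)) →
        Y * LinearMap.toMatrix' blk = LinearMap.toMatrix' blk * Y := fun Y hY => by
      apply Matrix.toLin'.injective
      rw [Matrix.toLin'_mul, Matrix.toLin'_mul, Matrix.toLin'_toMatrix']
      exact hext _ _ fun j x => by simp [Matrix.toLin'_apply, hY]
    refine ⟨fun g hg => key _ fun j x => ?_, fun Y hY => key _ fun j x => ?_⟩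
    · rw [hblk, hφ j ⟨g, hg⟩, hφ j ⟨g, hg⟩, hblk, Matrix.mulVec_mulVec, Matrix.mulVec_mulVec, hX]
    · -- the block entries of `Y` lie in the commutative algebra `D`
      have hblock : ∀ l, ∃ Z ∈ D, ∀ x, Φ.symm (Y *ᵥ φ j x) l = Z *ᵥ x := by
        intro l
        refine ⟨LinearMap.toMatrix' (LinearMap.proj l ∘ₗ Φ.symm.toLinearMap ∘ₗ Matrix.toLin' Y ∘ₗ φ j), hD _ ?_,
          fun x => by rw [← Matrix.toLin'_apply (LinearMap.toMatrix' _) x, Matrix.toLin'_toMatrix']; simp⟩
        intro n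
        apply Matrix.toLin'.injective
        rw [Matrix.toLin'_mul, Matrix.toLin'_mul, Matrix.toLin'_toMatrix']
        refine LinearMap.ext fun x => ?_
        simp only [LinearMap.comp_apply, Matrix.toLin'_apply, LinearMap.proj_apply, LinearEquiv.coe_coe]
        have hsym : ∀ v, Φ.symm (((n : GG) : MM) *ᵥ v) = fun l => A n *ᵥ Φ.symm v l := by
          intro v
          rw [LinearEquiv.symm_apply_eq]
          conv_lhs => rw [← Φ.apply_symm_apply v]
          show _ *ᵥ Cfsg.Agent.Lib.MaxTensor.assemble φ _ = Cfsg.Agent.Lib.MaxTensor.assemble φ _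
          simp [Cfsg.Agent.Lib.MaxTensor.assemble, Matrix.mulVec_sum, hφ]
        rw [← hφ, Matrix.mulVec_mulVec, ← hY n n.2, ← Matrix.mulVec_mulVec, hsym]
      choose Z hZ hZeq using hblock
      rw [hblk]
      apply Φ.symm.injective
      have hl : Φ.symm (blk (Y *ᵥ φ j x)) = fun l => X *ᵥ Φ.symm (Y *ᵥ φ j x) l := by
        simp [blk, Matrix.toLin'_apply]
        rfl
      rw [hl]
      funext l
      rw [hZeq, hZeq, Matrix.mulVec_mulVec, Matrix.mulVec_mulVec]
      have := congrArg Subtype.val (hcomm (⟨Z l, hZ l⟩ : D) ⟨X, hD X hX⟩)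
      simp only [MulMemClass.coe_mul] at this
      rw [this]
  obtain ⟨c, hcM⟩ := hc _ hM
  refine ⟨c, Matrix.ext_of_mulVec_single fun i => ?_⟩
  have h := hblk ⟨0, hk0⟩ (Pi.single i 1)
  rw [← Matrix.toLin'_toMatrix' blk, hcM, Matrix.toLin'_apply, Matrix.smul_mulVec, Matrix.one_mulVec,
    ← map_smul] at h
  have hinj : Function.Injective (φ ⟨0, hk0⟩) := by
    intro a c hac
    have hs : ∀ y, Cfsg.Agent.Lib.MaxTensor.assemble φ (Pi.single ⟨0, hk0⟩ y) = φ ⟨0, hk0⟩ y := fun y => by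
      simp only [Cfsg.Agent.Lib.MaxTensor.assemble, LinearMap.coe_mk, AddHom.coe_mk]
      rw [Finset.sum_eq_single ⟨0, hk0⟩ (fun l _ hl => by rw [Pi.single_eq_of_ne hl, map_zero])
        (fun h => absurd (Finset.mem_univ _) h), Pi.single_eq_same]
    exact Pi.single_injective (M := fun _ => Fin d → F) ⟨0, hk0⟩ (hbij.1 (by rw [hs, hs, hac]))
  rw [Matrix.smul_mulVec, Matrix.one_mulVec]
  exact (hinj h).symm

end Cfsg.Agent.Lib.TwoPrimeDim
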