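import Mathlib
import Cfsg.Prelude.Def_GeometricClasses
import Cfsg.Agent.Lib.MaxTensor.Homogeneous

/-!
Clifford theory through the centre of the commutant of a normal subgroup of an irreducible linear group.
-/

set_option autoImplicit false
set_option linter.unusedSectionVars false

namespace Cfsg.Agent.Lib.TwoPrimeDim

open Matrix Module
open scoped MatrixGroups Matrix

variable {ι : Type} [Fintype ι] [DecidableEq ι] {F : Type*} [Field F]

local notation "GG" => Matrix.GeneralLinearGroup ι F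
local notation "MM" => Matrix ι ι F
local notation "VV" => (ι → F)

/-- Subspace invariant under a group. -/
def Inv (N : Subgroup GG) (W : Submodule F VV) : Prop :=
  ∀ g ∈ N, ∀ w ∈ W, (g : MM) *ᵥ w ∈ W

theorem actsIrreducibly_iff (N : Subgroup GG) :
    Cfsg.Geo.ActsIrreducibly (Cfsg.Geo.matrixSet N) ↔ ∀ W, Inv N W → W = ⊥ ∨ W = ⊤ := by
  constructor
  · intro h W hW
    refine h W ?_
    rintro _ ⟨g, hg, rfl⟩ _ ⟨w, hw, rfl⟩
    simpa [Matrix.toLin'_apply] using hW g hg w hw
  · intro h W hW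
    refine h W fun g hg w hw => hW _ ⟨g, hg, rfl⟩ ⟨w, hw, ?_⟩
    simp [Matrix.toLin'_apply]

theorem eq_of_mulVec {A B : MM} (h : ∀ v : VV, A *ᵥ v = B *ᵥ v) : A = B :=
  Matrix.ext_of_mulVec_single fun _ => h _

/-- The centre of the commutant of a group. -/
def centre (N : Subgroup GG) : Subalgebra F MM :=
  Subalgebra.centralizer F (Cfsg.Geo.matrixSet N) ⊓
    Subalgebra.centralizer F (Subalgebra.centralizer F (Cfsg.Geo.matrixSet N) : Set MM)

variable {N G : Subgroup (Matrix.GeneralLinearGroup ι F)}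

theorem mem_commutant {X : MM} :
    X ∈ Subalgebra.centralizer F (Cfsg.Geo.matrixSet N) ↔ ∀ g ∈ N, (g : MM) * X = X * (g : MM) := by
  rw [Subalgebra.mem_centralizer_iff]
  exact ⟨fun h g hg => h _ ⟨g, hg, rfl⟩, by rintro h _ ⟨g, hg, rfl⟩; exact h g hg⟩

theorem mem_centre {M : MM} :
    M ∈ centre N ↔ (∀ g ∈ N, (g : MM) * M = M * (g : MM)) ∧
      ∀ X : MM, (∀ g ∈ N, (g : MM) * X = X * (g : MM)) → X * M = M * X := by
  rw [centre, Algebra.mem_inf, mem_commutant, Subalgebra.mem_centralizer_iff]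
  exact and_congr_right fun _ =>
    ⟨fun h X hX => h X (mem_commutant.mpr hX), fun h X hX => h X (mem_commutant.mp hX)⟩

theorem centre_comm {x y : MM} (hx : x ∈ centre N) (hy : y ∈ centre N) : x * y = y * x :=
  (mem_centre.mp hy).2 x (mem_centre.mp hx).1

theorem conj_mem_centre {g : GG} (h1 : ∀ x ∈ N, g * x * g⁻¹ ∈ N) (h2 : ∀ x ∈ N, g⁻¹ * x * g ∈ N) {k : MM}
    (hk : k ∈ centre N) : (g : MM) * k * ((g⁻¹ : GG) : MM) ∈ centre N := by
  rw [mem_centre] at hk ⊢
  constructor
  · intro x hx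
    have := congrArg (fun M => (g : MM) * M * ((g⁻¹ : GG) : MM)) (hk.1 _ (h2 x hx))
    simpa only [Units.val_mul, mul_assoc, Units.inv_mul_cancel_left, Units.mul_inv_cancel_left, Units.mul_inv,
      Units.inv_mul, mul_one, one_mul] using this
  · intro X hX
    have hX' : ∀ x ∈ N, (x : MM) * (((g⁻¹ : GG) : MM) * X * (g : MM)) =
        ((g⁻¹ : GG) : MM) * X * (g : MM) * (x : MM) := by
      intro x hx
      have := congrArg (fun M => ((g⁻¹ : GG) : MM) * M * (g : MM)) (hX _ (h1 x hx))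
      simpa only [Units.val_mul, mul_assoc, Units.inv_mul_cancel_left, Units.mul_inv_cancel_left, Units.mul_inv,
        Units.inv_mul, mul_one, one_mul] using this
    have := congrArg (fun M => (g : MM) * M * ((g⁻¹ : GG) : MM)) (hk.2 _ hX')
    simpa only [Units.val_mul, mul_assoc, Units.inv_mul_cancel_left, Units.mul_inv_cancel_left, Units.mul_inv,
      Units.inv_mul, mul_one, one_mul] using this

theorem centre_normalized (hNG : ∀ g ∈ G, ∀ x ∈ N, g * x * g⁻¹ ∈ N) {g : GG} (hg : g ∈ G) :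
    g ∈ Cfsg.Geo.subalgebraNormalizer (centre N) := by
  have h2 : ∀ g ∈ G, ∀ x ∈ N, g⁻¹ * x * g ∈ N := fun g hg x hx => by
    simpa using hNG g⁻¹ (G.inv_mem hg) x hx
  intro k
  refine ⟨conj_mem_centre (hNG g hg) (h2 g hg), fun h => ?_⟩
  have := conj_mem_centre (g := g⁻¹) (hNG g⁻¹ (G.inv_mem hg)) (h2 g⁻¹ (G.inv_mem hg)) h
  simpa only [inv_inv, mul_assoc, Units.inv_mul_cancel_left, Units.inv_mul, mul_one] using this

variable [Finite F]

/-- The centre of the commutant of a normal subgroup of an irreducible group has no nilpotents. -/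
theorem centre_reduced (hG : Cfsg.Geo.ActsIrreducibly (Cfsg.Geo.matrixSet G))
    (hNG : ∀ g ∈ G, ∀ x ∈ N, g * x * g⁻¹ ∈ N) {x : MM} (hx : x ∈ centre N) (hn : IsNilpotent x) : x = 0 := by
  classical
  by_contra hx0
  rcases isEmpty_or_nonempty ι with hι | hι
  · exact hx0 (Subsingleton.elim _ _)
  let J : Set MM := {y | y ∈ centre N ∧ IsNilpotent y}
  let U : Submodule F VV := Submodule.span F {v | ∃ y ∈ J, ∃ u, v = y *ᵥ u}
  have hinv : Inv G U := by
    intro g hg w hw
    induction hw using Submodule.span_induction with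
    | mem v hv =>
      obtain ⟨y, hy, u, rfl⟩ := hv
      refine Submodule.subset_span ⟨(g : MM) * y * ((g⁻¹ : GG) : MM), ⟨(centre_normalized hNG hg y).mp hy.1, ?_⟩,
        (g : MM) *ᵥ u, ?_⟩
      · obtain ⟨k, hk⟩ := hy.2
        refine ⟨k, ?_⟩
        rw [Units.conj_pow, hk]; simp
      · rw [Matrix.mulVec_mulVec, Matrix.mulVec_mulVec, mul_assoc, Units.inv_mul, mul_one]
    | zero => simp
    | add a b _ _ iha ihb => rw [Matrix.mulVec_add]; exact add_mem iha ihb
    | smul c a _ iha => rw [Matrix.mulVec_smul]; exact Submodule.smul_mem _ _ iha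
  rcases (actsIrreducibly_iff G).mp hG U hinv with h | h
  · refine hx0 (eq_of_mulVec fun v => ?_)
    have : x *ᵥ v ∈ U := Submodule.subset_span ⟨x, ⟨hx, hn⟩, v, rfl⟩
    rw [h, Submodule.mem_bot] at this
    simp [this]
  have key : ∀ s : Finset MM, (∀ y ∈ s, y ∈ J) → ∃ a ∈ centre N, a ≠ 0 ∧ ∀ y ∈ s, a * y = 0 := by
    intro s
    induction s using Finset.induction with
    | empty => exact fun _ => ⟨1, one_mem _, one_ne_zero, fun _ h => absurd h (Finset.notMem_empty _)⟩
    | insert z s _ ih =>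
      intro hs
      obtain ⟨a, ha, ha0, has⟩ := ih fun y hy => hs y (Finset.mem_insert_of_mem hy)
      obtain ⟨hz, k, hk⟩ := hs z (Finset.mem_insert_self _ _)
      have hex : ∃ j, a * z ^ j = 0 := ⟨k, by rw [hk, mul_zero]⟩
      obtain ⟨j, hj⟩ : ∃ j, Nat.find hex = j + 1 := by
        refine Nat.exists_eq_succ_of_ne_zero fun h => ha0 ?_
        simpa [h] using Nat.find_spec hex
      refine ⟨a * z ^ j, mul_mem ha (pow_mem hz j), Nat.find_min hex (by omega), fun y hy => ?_⟩
      rcases Finset.mem_insert.mp hy with rfl | hy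
      · rw [mul_assoc, ← pow_succ, ← hj]; exact Nat.find_spec hex
      · rw [mul_assoc, centre_comm (pow_mem hz j) (hs y (Finset.mem_insert_of_mem hy)).1, ← mul_assoc, has y hy,
          zero_mul]
  haveI : Finite MM := inferInstance
  obtain ⟨a, -, ha0, ha⟩ := key (Set.toFinite J).toFinset fun y hy => by simpa using hy
  refine ha0 (eq_of_mulVec fun v => ?_)
  have hv : v ∈ U := h ▸ Submodule.mem_top
  rw [Matrix.zero_mulVec]
  induction hv using Submodule.span_induction with
  | mem v hv =>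
    obtain ⟨y, hy, u, rfl⟩ := hv
    rw [Matrix.mulVec_mulVec, ha y (by simpa using hy), Matrix.zero_mulVec]
  | zero => simp
  | add a b _ _ iha ihb => rw [Matrix.mulVec_add, iha, ihb, add_zero]
  | smul c a _ iha => rw [Matrix.mulVec_smul, iha, smul_zero]

theorem exists_idempotent_pow (x : MM) : ∃ k, 0 < k ∧ x ^ k * x ^ k = x ^ k := by
  obtain ⟨a, b, hne, heq⟩ := Finite.exists_ne_map_eq_of_infinite (fun k : ℕ => x ^ k)
  wlog hab : a < b generalizing a b
  · exact this b a hne.symm heq.symm (by omega)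
  have h1 : ∀ j, x ^ (a + j + (b - a)) = x ^ (a + j) := fun j => by
    rw [show a + j + (b - a) = b + j by omega, pow_add, pow_add]
    exact congrArg (· * x ^ j) heq.symm
  have h2 : ∀ i j, x ^ (a + j + i * (b - a)) = x ^ (a + j) := by
    intro i
    induction i with
    | zero => simp
    | succ i ih =>
      intro j
      rw [show a + j + (i + 1) * (b - a) = a + (j + i * (b - a)) + (b - a) by rw [add_one_mul]; omega, h1,
        ← add_assoc, ih]
  refine ⟨(a + 1) * (b - a), Nat.mul_pos (by omega) (by omega), ?_⟩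
  obtain ⟨j, hj⟩ : ∃ j, (a + 1) * (b - a) = a + j := ⟨(a + 1) * (b - a) - a, by
    have := Nat.le_mul_of_pos_right (a + 1) (show 0 < b - a by omega); omega⟩
  rw [← pow_add]
  conv_lhs => rw [hj]
  rw [show a + j + (a + j) = a + j + (a + 1) * (b - a) by omega, h2, hj]

/-- Either a field or a non-trivial idempotent. -/
theorem field_or_idempotent [Nonempty ι] (hG : Cfsg.Geo.ActsIrreducibly (Cfsg.Geo.matrixSet G))
    (hNG : ∀ g ∈ G, ∀ x ∈ N, g * x * g⁻¹ ∈ N) :
    (∀ x ∈ centre N, x ≠ 0 → ∃ y ∈ centre N, x * y = 1) ∨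
      ∃ e ∈ centre N, e * e = e ∧ e ≠ 0 ∧ e ≠ 1 := by
  by_cases h : ∀ e ∈ centre N, e * e = e → e = 0 ∨ e = 1
  · refine Or.inl fun x hx hx0 => ?_
    obtain ⟨k, hk, hkk⟩ := exists_idempotent_pow x
    rcases h _ (pow_mem hx k) hkk with h0 | h1
    · exact absurd (centre_reduced hG hNG hx ⟨k, h0⟩) hx0
    · exact ⟨x ^ (k - 1), pow_mem hx _, by rw [← pow_succ', Nat.sub_add_cancel hk, h1]⟩
  · push Not at h
    exact Or.inr h

theorem field_dvd [Nonempty ι] (hinv : ∀ x ∈ centre N, x ≠ 0 → ∃ y ∈ centre N, x * y = 1) :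
    finrank F (centre N) ∣ Fintype.card ι := by
  set K := centre N
  obtain ⟨U, ⟨hU, hdU⟩, hmax⟩ := Set.Finite.exists_maximal
    (Set.toFinite {U : Submodule F VV | (∀ k ∈ K, ∀ u ∈ U, k *ᵥ u ∈ U) ∧ finrank F K ∣ finrank F U})
    ⟨⊥, fun k _ u hu => by simp [(Submodule.mem_bot F).mp hu], by simp⟩
  suffices U = ⊤ by
    rw [this, finrank_top, Module.finrank_fintype_fun_eq_card] at hdU
    exact hdU
  by_contra hne
  obtain ⟨v, hv⟩ : ∃ v, v ∉ U := by
    by_contra hc
    push Not at hc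
    exact hne (Submodule.eq_top_iff'.mpr hc)
  let L : ↥(Subalgebra.toSubmodule K) →ₗ[F] VV :=
    { toFun := fun k => (k : MM) *ᵥ v
      map_add' := fun a b => Matrix.add_mulVec _ _ v
      map_smul' := fun c a => Matrix.smul_mulVec c _ v }
  have hmem : ∀ k ∈ K, k *ᵥ v ∈ U → k = 0 := by
    intro k hk hku
    by_contra hk0
    obtain ⟨y, hy, hky⟩ := hinv k hk hk0
    refine hv ?_
    have := hU y hy _ hku
    rwa [Matrix.mulVec_mulVec, centre_comm hy hk, hky, Matrix.one_mulVec] at this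
  have hL : Function.Injective L := (injective_iff_map_eq_zero L).mpr fun k hk =>
    Subtype.ext (hmem k k.2 (by rw [show (k : MM) *ᵥ v = 0 from hk]; exact zero_mem _))
  have hdisj : U ⊓ LinearMap.range L = ⊥ := by
    rw [Submodule.eq_bot_iff]
    rintro _ ⟨hxU, k, rfl⟩
    show (k : MM) *ᵥ v = 0
    rw [hmem k k.2 hxU, Matrix.zero_mulVec]
  have hfin : finrank F ↥(U ⊔ LinearMap.range L) = finrank F U + finrank F K := by
    have := Submodule.finrank_sup_add_finrank_inf_eq U (LinearMap.range L)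
    rw [hdisj, finrank_bot, add_zero, LinearMap.finrank_range_of_inj hL] at this
    exact this
  have hle := hmax (y := U ⊔ LinearMap.range L) ⟨fun k hk w hw => ?_, hfin ▸ dvd_add hdU dvd_rfl⟩ le_sup_left
  · exact hv (hle (Submodule.mem_sup_right ⟨⟨1, one_mem K⟩, Matrix.one_mulVec v⟩))
  · obtain ⟨a, ha, _, ⟨l, rfl⟩, rfl⟩ := Submodule.mem_sup.mp hw
    rw [Matrix.mulVec_add]
    exact Submodule.add_mem_sup (hU k hk a ha)
      ⟨⟨k * (l : MM), K.mul_mem hk l.2⟩, (Matrix.mulVec_mulVec v k (l : MM)).symm⟩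

/-- The image of a matrix. -/
abbrev img (e : MM) : Submodule F VV := LinearMap.range (Matrix.toLin' e)

theorem mem_img_idem {e : MM} (he : e * e = e) {v : VV} : v ∈ img e ↔ e *ᵥ v = v := by
  constructor
  · rintro ⟨u, rfl⟩
    rw [Matrix.toLin'_apply, Matrix.mulVec_mulVec, he]
  · exact fun h => ⟨v, by rw [Matrix.toLin'_apply, h]⟩

/-- The blocks given by the primitive idempotents of the centre. -/
structure Blocks (G N : Subgroup GG) {t : ℕ} (w : ℕ) (e : Fin t → MM) : Prop where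
  mem : ∀ i, e i ∈ centre N
  idem : ∀ i, e i * e i = e i
  orth : ∀ i j, i ≠ j → e i * e j = 0
  sum_eq : ∑ i, e i = 1
  ne_zero : ∀ i, e i ≠ 0
  prim : ∀ i, ∀ f ∈ centre N, f * f = f → e i * f = 0 ∨ e i * f = e i
  perm : ∀ g ∈ G, ∃ σ : Equiv.Perm (Fin t), ∀ i, (g : MM) * e i * ((g⁻¹ : GG) : MM) = e (σ i)
  trans : ∀ i j, ∃ g ∈ G, (g : MM) * e i * ((g⁻¹ : GG) : MM) = e j
  decomp : Cfsg.Geo.IsMDecomposition w fun i => img (e i)
  card_eq : t * w = Fintype.card ι
  le_stab : G ≤ Cfsg.Geo.decompositionStabilizer fun i => img (e i)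
  inv : ∀ i, Inv N (img (e i))

theorem Blocks.exists_eq {t w : ℕ} {e : Fin t → MM} (hB : Blocks G N w e) {f : MM} (hf : f ∈ centre N)
    (hff : f * f = f) (hf0 : f ≠ 0) (hprim : ∀ i, f * e i = 0 ∨ f * e i = f) : ∃ i, f = e i := by
  by_contra hc
  push Not at hc
  refine hf0 ?_
  have : f = ∑ i, f * e i := by rw [← Finset.mul_sum, hB.sum_eq, mul_one]
  rw [this]
  refine Finset.sum_eq_zero fun i _ => ?_
  rcases hprim i with h | h
  · exact h
  · rcases hB.prim i f hf hff with h' | h'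
    · rwa [centre_comm hf (hB.mem i)]
    · exact absurd (by rw [← h, centre_comm hf (hB.mem i), h']) (hc i)

theorem map_img_conj {e : MM} (g : GG) :
    (img e).map (Matrix.toLin' (g : MM)) = img ((g : MM) * e * ((g⁻¹ : GG) : MM)) := by
  ext v
  simp only [Submodule.mem_map, LinearMap.mem_range, Matrix.toLin'_apply, exists_exists_eq_and]
  constructor
  · rintro ⟨u, rfl⟩
    exact ⟨(g : MM) *ᵥ u, by
      rw [Matrix.mulVec_mulVec, Matrix.mulVec_mulVec, mul_assoc, Units.inv_mul, mul_one]⟩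
  · rintro ⟨u, rfl⟩
    exact ⟨((g⁻¹ : GG) : MM) *ᵥ u, by rw [Matrix.mulVec_mulVec, Matrix.mulVec_mulVec, mul_assoc]⟩

theorem exists_blocks_of_idempotent (hG : Cfsg.Geo.ActsIrreducibly (Cfsg.Geo.matrixSet G))
    (hNG : ∀ g ∈ G, ∀ x ∈ N, g * x * g⁻¹ ∈ N) {e₀ : MM} (he₀ : e₀ ∈ centre N) (hee : e₀ * e₀ = e₀)
    (h00 : e₀ ≠ 0) (h01 : e₀ ≠ 1) : ∃ (t w : ℕ) (e : Fin t → MM), Blocks G N w e := by
  classical
  let IsI : MM → Prop := fun f => f ∈ centre N ∧ f * f = f
  let IsA : MM → Prop := fun a => IsI a ∧ a ≠ 0 ∧ ∀ f, IsI f → a * f = 0 ∨ a * f = a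
  have hImul : ∀ a b, IsI a → IsI b → IsI (a * b) := fun a b ha hb =>
    ⟨mul_mem ha.1 hb.1, by
      rw [show a * b * (a * b) = a * (b * a) * b by simp [mul_assoc], centre_comm hb.1 ha.1,
        show a * (a * b) * b = a * a * (b * b) by simp [mul_assoc], ha.2, hb.2]⟩
  have hbelow : ∀ f, IsI f → f ≠ 0 → ∃ a, IsA a ∧ a * f = a := by
    intro f hf hf0
    have hex : ∃ r, ∃ a, IsI a ∧ a ≠ 0 ∧ a * f = a ∧ finrank F (img a) = r := ⟨_, f, hf, hf0, hf.2, rfl⟩
    obtain ⟨a, ha, ha0, haf, har⟩ := Nat.find_spec hex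
    refine ⟨a, ⟨ha, ha0, fun h hh => ?_⟩, haf⟩
    by_cases h0 : a * h = 0
    · exact Or.inl h0
    refine Or.inr ?_
    have hle : img (a * h) ≤ img a := by
      rintro _ ⟨u, rfl⟩
      exact ⟨h *ᵥ u, by rw [Matrix.toLin'_apply, Matrix.toLin'_apply, Matrix.mulVec_mulVec]⟩
    have hmin : Nat.find hex ≤ finrank F (img (a * h)) :=
      Nat.find_min' hex ⟨a * h, hImul a h ha hh, h0, by rw [mul_assoc, centre_comm hh.1 hf.1, ← mul_assoc, haf], rfl⟩
    have heq : img (a * h) = img a := Submodule.eq_of_le_of_finrank_le hle (har ▸ hmin)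
    have hfix : a * h * a = a := eq_of_mulVec fun u => by
      rw [← Matrix.mulVec_mulVec]
      exact (mem_img_idem (hImul a h ha hh).2).mp (heq ▸ ⟨u, rfl⟩)
    rw [mul_assoc, centre_comm hh.1 ha.1, ← mul_assoc, ha.2] at hfix
    exact hfix
  haveI : Finite MM := inferInstance
  have horth : ∀ a b, IsA a → IsA b → a ≠ b → a * b = 0 := by
    intro a b ha hb hab
    rcases ha.2.2 b hb.1 with h | h
    · exact h
    · rcases hb.2.2 a ha.1 with h' | h'
      · rw [centre_comm hb.1.1 ha.1.1] at h'; exact h'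
      · exact absurd (by rw [← h, centre_comm ha.1.1 hb.1.1, h']) hab
  let As : Finset MM := (Set.toFinite {a | IsA a}).toFinset
  have hAs : ∀ a, a ∈ As ↔ IsA a := fun a => by simp [As]
  have hsum : ∑ a ∈ As, a = 1 := by
    by_contra hne
    set s := ∑ a ∈ As, a with hs
    have hmul : ∀ a ∈ As, a * s = a := by
      intro a ha
      rw [hs, Finset.mul_sum, Finset.sum_eq_single a (fun b hb hba => horth a b ((hAs a).mp ha) ((hAs b).mp hb) hba.symm)
        (fun h => absurd ha h), ((hAs a).mp ha).1.2]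
    have hss : s * s = s := by
      conv_lhs => arg 1; rw [hs]
      rw [Finset.sum_mul, Finset.sum_congr rfl hmul]
    have hsI : IsI (1 - s) := ⟨sub_mem (one_mem _) (sum_mem fun a ha => ((hAs a).mp ha).1.1), by
      rw [sub_mul, one_mul, mul_sub, mul_one, hss, sub_self, sub_zero]⟩
    obtain ⟨a, ha, hab⟩ := hbelow (1 - s) hsI (sub_ne_zero.mpr (Ne.symm hne))
    rw [mul_sub, mul_one, hmul a ((hAs a).mpr ha), sub_self] at hab
    exact ha.2.1 hab.symm
  let t := As.card
  let e : Fin t → MM := fun i => (As.equivFin.symm i : MM)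
  have heA : ∀ i, IsA (e i) := fun i => (hAs _).mp (As.equivFin.symm i).2
  have hinj : Function.Injective e := Subtype.val_injective.comp As.equivFin.symm.injective
  have hsurj : ∀ a, IsA a → ∃ i, e i = a := fun a ha => ⟨As.equivFin ⟨a, (hAs a).mpr ha⟩, by simp [e]⟩
  have hconjmul : ∀ (g : GG) (a b : MM), ((g : MM) * a * ((g⁻¹ : GG) : MM)) * ((g : MM) * b * ((g⁻¹ : GG) : MM))
      = (g : MM) * (a * b) * ((g⁻¹ : GG) : MM) := fun g a b => by
    simp only [mul_assoc, Units.inv_mul_cancel_left]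
  have hconj : ∀ g ∈ G, ∀ a, IsA a → IsA ((g : MM) * a * ((g⁻¹ : GG) : MM)) := by
    intro g hg a ha
    refine ⟨⟨(centre_normalized hNG hg a).mp ha.1.1, by rw [hconjmul, ha.1.2]⟩, fun h => ha.2.1 ?_, fun f hf => ?_⟩
    · have := congrArg (fun M => ((g⁻¹ : GG) : MM) * M * (g : MM)) h
      simpa [mul_assoc] using this
    · set f' := ((g⁻¹ : GG) : MM) * f * ((g⁻¹⁻¹ : GG) : MM) with hf'
      have hfI : IsI f' := ⟨(centre_normalized hNG (G.inv_mem hg) f).mp hf.1, by
        rw [hf', hconjmul, hf.2]⟩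
      have hback : f = (g : MM) * f' * ((g⁻¹ : GG) : MM) := by simp [hf', mul_assoc]
      rw [hback, hconjmul]
      rcases ha.2.2 f' hfI with h | h <;> rw [h] <;> simp
  have hperm : ∀ g ∈ G, ∃ σ : Equiv.Perm (Fin t), ∀ i, (g : MM) * e i * ((g⁻¹ : GG) : MM) = e (σ i) := by
    intro g hg
    choose s hs using fun i => hsurj _ (hconj g hg _ (heA i))
    refine ⟨Equiv.ofBijective s (Finite.injective_iff_bijective.mp fun i j h => hinj ?_), fun i => (hs i).symm⟩
    have := congrArg (fun M => ((g⁻¹ : GG) : MM) * M * (g : MM)) ((hs i).symm.trans ((congrArg e h).trans (hs j)))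
    simpa [mul_assoc] using this
  have hes : ∑ i, e i = 1 := by
    rw [← hsum, ← Finset.sum_coe_sort As]
    exact Fintype.sum_equiv As.equivFin.symm _ _ fun i => rfl
  have horth' : ∀ i j, i ≠ j → e i * e j = 0 := fun i j h => horth _ _ (heA i) (heA j) fun h' => h (hinj h')
  have htrans : ∀ i j, ∃ g ∈ G, (g : MM) * e i * ((g⁻¹ : GG) : MM) = e j := by
    intro i j
    by_contra hc
    push Not at hc
    let U : Submodule F VV := ⨆ g : G, img (((g : GG) : MM) * e i * (((g : GG)⁻¹ : GG) : MM))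
    have hUi : Inv G U := by
      intro h hh v hv
      have hle : U.map (Matrix.toLin' (h : MM)) ≤ U := by
        rw [Submodule.map_iSup, iSup_le_iff]
        intro g
        rw [map_img_conj]
        exact le_iSup_of_le (⟨h, hh⟩ * g) (le_of_eq (congrArg img (by simp [mul_assoc])))
      exact hle ⟨v, hv, by rw [Matrix.toLin'_apply]⟩
    rcases (actsIrreducibly_iff G).mp hG U hUi with h | h
    · refine (heA i).2.1 (eq_of_mulVec fun v => ?_)
      have hle := le_iSup (fun g : G => img (((g : GG) : MM) * e i * (((g : GG)⁻¹ : GG) : MM))) 1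
      have : e i *ᵥ v ∈ U := hle ⟨v, by simp⟩
      rw [h, Submodule.mem_bot] at this
      simp [this]
    · refine (heA j).2.1 (eq_of_mulVec fun v => ?_)
      have hle : U ≤ LinearMap.ker (Matrix.toLin' (e j)) := by
        refine iSup_le fun g => ?_
        rintro _ ⟨u, rfl⟩
        rw [LinearMap.mem_ker, Matrix.toLin'_apply, Matrix.toLin'_apply, Matrix.mulVec_mulVec,
          horth _ _ (heA j) (hconj g g.2 _ (heA i)) (fun h => hc g g.2 h.symm), Matrix.zero_mulVec]
      simpa using hle (h ▸ Submodule.mem_top : v ∈ U)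
  have hcompl : ∀ i, ∀ v ∈ ⨆ (j) (_ : j ≠ i), img (e j), e i *ᵥ v = 0 := by
    intro i v hv
    have : (⨆ (j) (_ : j ≠ i), img (e j)) ≤ LinearMap.ker (Matrix.toLin' (e i)) := by
      refine iSup₂_le fun j hj => ?_
      rintro _ ⟨u, rfl⟩
      rw [LinearMap.mem_ker, Matrix.toLin'_apply, Matrix.toLin'_apply, Matrix.mulVec_mulVec, horth' i j hj.symm,
        Matrix.zero_mulVec]
    simpa using this hv
  have hindep : iSupIndep fun i => img (e i) := fun i => by
    rw [disjoint_iff, Submodule.eq_bot_iff]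
    rintro v ⟨hv1, hv2⟩
    rw [← (mem_img_idem (heA i).1.2).mp hv1]
    exact hcompl i v hv2
  have htop : ⨆ i, img (e i) = ⊤ := eq_top_iff.mpr fun v _ => by
    have : v = ∑ i, e i *ᵥ v := by rw [← Matrix.sum_mulVec, hes, Matrix.one_mulVec]
    rw [this]
    exact sum_mem fun i _ => Submodule.mem_iSup_of_mem i ⟨v, rfl⟩
  have ht : 2 ≤ t := by
    obtain ⟨a, ha, hae⟩ := hbelow e₀ ⟨he₀, hee⟩ h00
    obtain ⟨b, hb, hbe⟩ := hbelow (1 - e₀) ⟨sub_mem (one_mem _) he₀, by
      rw [sub_mul, one_mul, mul_sub, mul_one, hee, sub_self, sub_zero]⟩ (sub_ne_zero.mpr (Ne.symm h01))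
    have hab : a ≠ b := by
      rintro rfl
      rw [mul_sub, mul_one, hae, sub_self] at hbe
      exact ha.2.1 hbe.symm
    exact Finset.one_lt_card.mpr ⟨a, (hAs a).mpr ha, b, (hAs b).mpr hb, hab⟩
  let i0 : Fin t := ⟨0, by omega⟩
  have hdim : ∀ i, finrank F (img (e i)) = finrank F (img (e i0)) := by
    intro i
    obtain ⟨g, hg, hge⟩ := htrans i0 i
    rw [← hge, ← map_img_conj]
    exact (Submodule.equivMapOfInjective _ (by
      intro a b hab
      simp only [Matrix.toLin'_apply] at hab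
      exact Matrix.mulVec_injective_iff_isUnit.mpr g.isUnit hab) _).finrank_eq.symm
  have hpos : 0 < finrank F (img (e i0)) := by
    refine Nat.pos_of_ne_zero fun h => (heA i0).2.1 ?_
    rw [Submodule.finrank_eq_zero] at h
    refine eq_of_mulVec fun v => ?_
    have : e i0 *ᵥ v ∈ img (e i0) := ⟨v, rfl⟩
    rw [h, Submodule.mem_bot] at this
    simp [this]
  have hdec : DirectSum.IsInternal fun i => img (e i) :=
    DirectSum.isInternal_submodule_of_iSupIndep_of_iSup_eq_top hindep htop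
  refine ⟨t, finrank F (img (e i0)), e, fun i => (heA i).1.1, fun i => (heA i).1.2, horth', hes,
    fun i => (heA i).2.1, fun i f hf hff => (heA i).2.2 f ⟨hf, hff⟩, hperm, htrans,
    ⟨ht, hpos, hdim, hindep, htop⟩, ?_, ?_, ?_⟩
  · have h := (LinearEquiv.ofBijective (DirectSum.coeLinearMap fun i => img (e i)) hdec).finrank_eq
    rw [Module.finrank_directSum, Finset.sum_congr rfl fun i _ => hdim i, Finset.sum_const, Finset.card_univ,
      Fintype.card_fin, smul_eq_mul, Module.finrank_fintype_fun_eq_card] at h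
    exact h
  · intro g hg
    obtain ⟨σ, hσ⟩ := hperm g hg
    exact ⟨σ, fun i => by rw [map_img_conj, hσ]⟩
  · intro i g hg v hv
    rw [mem_img_idem (heA i).1.2] at hv ⊢
    rw [Matrix.mulVec_mulVec, ← (mem_centre.mp (heA i).1.1).1 g hg, ← Matrix.mulVec_mulVec, hv]

/-- The centre of the commutant is a field, or yields blocks permuted transitively. -/
theorem centre_cases [Nonempty ι] (hG : Cfsg.Geo.ActsIrreducibly (Cfsg.Geo.matrixSet G))
    (hNG : ∀ g ∈ G, ∀ x ∈ N, g * x * g⁻¹ ∈ N) :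
    (∃ r, r ∣ Fintype.card ι ∧ Cfsg.Geo.IsFieldSubalgebra r (centre N)) ∨
      ∃ (t w : ℕ) (e : Fin t → MM), Blocks G N w e := by
  rcases field_or_idempotent hG hNG with h | ⟨e, he, hee, h0, h1⟩
  · exact Or.inl ⟨_, field_dvd h, fun x hx y hy => centre_comm hx hy, h, rfl⟩
  · exact Or.inr (exists_blocks_of_idempotent hG hNG he hee h0 h1)

end Cfsg.Agent.Lib.TwoPrimeDim
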